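import Mathlib

/-! The grading of a quotient by a homogeneous ideal. -/

universe u

set_option linter.unusedSectionVars false

namespace Groth.Agent.EGA2G

open DirectSum

variable {R A : Type u} [CommRing R] [CommRing A] [Algebra R A] (𝒜 : ℕ → Submodule R A) [GradedAlgebra 𝒜]
  (I : Ideal A)

/-- The image grading on a quotient. -/
def quotGr (n : ℕ) : Submodule R (A ⧸ I) := (𝒜 n).map (Ideal.Quotient.mkₐ R I).toLinearMap

instance : SetLike.GradedMonoid (quotGr 𝒜 I) where
  one_mem := ⟨1, SetLike.one_mem_graded 𝒜, map_one (Ideal.Quotient.mkₐ R I)⟩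
  mul_mem := by
    rintro i j _ _ ⟨a, ha, rfl⟩ ⟨b, hb, rfl⟩
    exact ⟨a * b, SetLike.mul_mem_graded ha hb, map_mul (Ideal.Quotient.mkₐ R I) a b⟩

lemma quotGr_isInternal (hI : I.IsHomogeneous 𝒜) : DirectSum.IsInternal (quotGr 𝒜 I) := by
  classical
  rw [DirectSum.isInternal_submodule_iff_iSupIndep_and_iSup_eq_top]
  constructor
  · rw [iSupIndep_iff_finsetSum_eq_zero_imp_eq_zero]
    intro s v hv hsum i hi
    choose! a ha hav using hv
    have hmem : ∑ j ∈ s, a j ∈ I := by
      refine Ideal.Quotient.eq_zero_iff_mem.mp ?_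
      rw [map_sum, ← hsum]
      exact Finset.sum_congr rfl fun j hj => hav j hj
    have hc := hI i hmem
    rw [DirectSum.decompose_sum, DFinsupp.finsetSum_apply, AddSubmonoidClass.coe_finsetSum,
      Finset.sum_eq_single i (fun j hj hji => DirectSum.decompose_of_mem_ne 𝒜 (ha j hj) hji)
        (fun h => absurd hi h), DirectSum.decompose_of_mem_same 𝒜 (ha i hi)] at hc
    rw [← hav i hi]
    exact Ideal.Quotient.eq_zero_iff_mem.mpr hc
  · rw [eq_top_iff]
    intro x _
    obtain ⟨a, rfl⟩ := Ideal.Quotient.mk_surjective x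
    rw [← DirectSum.sum_support_decompose 𝒜 a, map_sum]
    exact Submodule.sum_mem _ fun j _ => Submodule.mem_iSup_of_mem j ⟨_, Subtype.prop _, rfl⟩

/-- The graded algebra structure on a quotient by a homogeneous ideal. -/
@[reducible] noncomputable def quotGradedAlgebra (hI : I.IsHomogeneous 𝒜) : GradedAlgebra (quotGr 𝒜 I) :=
  DirectSum.IsInternal.gradedAlgebra (quotGr_isInternal 𝒜 I hI)

variable [GradedAlgebra (quotGr 𝒜 I)]

/-- The quotient map as a graded ring homomorphism. -/
def quotHom : 𝒜 →+*ᵍ quotGr 𝒜 I where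
  __ := Ideal.Quotient.mk I
  map_mem hx := ⟨_, hx, rfl⟩

lemma quotHom_apply (a : A) : quotHom 𝒜 I a = Ideal.Quotient.mk I a := rfl

lemma quotHom_surjective : Function.Surjective (quotHom 𝒜 I) := Ideal.Quotient.mk_surjective

lemma irrelevant_le_map_quotHom :
    HomogeneousIdeal.irrelevant (quotGr 𝒜 I) ≤ (HomogeneousIdeal.irrelevant 𝒜).map (quotHom 𝒜 I) := by
  intro b hb
  obtain ⟨a, rfl⟩ := quotHom_surjective 𝒜 I b
  have h0 : quotHom 𝒜 I (DirectSum.decompose 𝒜 a 0 : A) = 0 := by
    rw [GradedRingHom.map_directSumDecompose]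
    exact (HomogeneousIdeal.mem_irrelevant_iff _ _).mp hb
  have ha : a - (DirectSum.decompose 𝒜 a 0 : A) ∈ (HomogeneousIdeal.irrelevant 𝒜).toIdeal := by
    change _ ∈ HomogeneousIdeal.irrelevant 𝒜
    rw [HomogeneousIdeal.mem_irrelevant_iff, GradedRing.proj_apply]
    simp [DirectSum.decompose_sub]
  have h1 := Ideal.mem_map_of_mem (quotHom 𝒜 I) ha
  rw [map_sub, h0, sub_zero] at h1
  exact h1

end Groth.Agent.EGA2G
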