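import Groth.Agent.EGA2G.ProjMap
import Groth.Agent.EGA2G.QuotGraded

/-! Closed subschemes of `Proj` come from graded ideals. -/

universe u

set_option linter.unusedSectionVars false

namespace Groth.Agent.EGA2G

open CategoryTheory AlgebraicGeometry DirectSum HomogeneousLocalization TopologicalSpace

variable {R A : Type u} [CommRing R] [CommRing A] [Algebra R A] (𝒜 : ℕ → Submodule R A) [GradedAlgebra 𝒜]

section Dehom

variable {g : A} (hg : g ∈ 𝒜 1)

/-- Numerator-to-fraction map in a fixed degree. -/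
noncomputable def dehomAux (n : ℕ) : 𝒜 n →+ Away 𝒜 g where
  toFun a := Away.mk 𝒜 hg n a (by rw [smul_eq_mul, mul_one]; exact a.2)
  map_zero' := by apply HomogeneousLocalization.val_injective; simp [Localization.mk_zero]
  map_add' a b := by
    apply HomogeneousLocalization.val_injective
    simp only [HomogeneousLocalization.val_add, Away.val_mk, Submodule.coe_add, Localization.add_mk_self]

/-- Dehomogenisation at an element of degree one. -/
noncomputable def dehom : A →+* Away 𝒜 g :=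
  (DirectSum.toSemiring (dehomAux 𝒜 hg)
    (by apply HomogeneousLocalization.val_injective; simp [dehomAux, SetLike.coe_gOne])
    (by
      intro i j a b
      apply HomogeneousLocalization.val_injective
      simp [dehomAux, Localization.mk_mul, SetLike.coe_gMul, pow_add])).comp (DirectSum.decomposeRingEquiv 𝒜).toRingHom

lemma dehom_of_mem {n : ℕ} {a : A} (ha : a ∈ 𝒜 n) :
    dehom 𝒜 hg a = Away.mk 𝒜 hg n a (by rw [smul_eq_mul, mul_one]; exact ha) := by
  unfold dehom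
  rw [RingHom.comp_apply, RingEquiv.toRingHom_eq_coe, RingHom.coe_coe]
  erw [DirectSum.decompose_of_mem 𝒜 ha]
  exact DirectSum.toSemiring_of _ _ _ _ _

lemma dehom_val {n : ℕ} {a : A} (ha : a ∈ 𝒜 n) :
    (dehom 𝒜 hg a).val = Localization.mk a ⟨g ^ n, Submonoid.pow_mem _ (Submonoid.mem_powers g) n⟩ := by
  rw [dehom_of_mem 𝒜 hg ha]; rfl

lemma dehom_self : dehom 𝒜 hg g = 1 := by
  apply HomogeneousLocalization.val_injective
  rw [dehom_val 𝒜 hg hg, HomogeneousLocalization.val_one, ← Localization.mk_one,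
    Localization.mk_eq_mk_iff, Localization.r_iff_exists]
  exact ⟨1, by simp⟩

end Dehom

variable {f g : A} (hf : f ∈ 𝒜 1) (hg : g ∈ 𝒜 1)

lemma dehom_mul_mem_iff_exists (J : Ideal (Away 𝒜 g)) {a : A} {n : ℕ} (ha : a ∈ 𝒜 n)
    (h : awayMap 𝒜 hg (rfl : f * g = f * g) (dehom 𝒜 hf a) ∈
      J.map (awayMap 𝒜 hf (mul_comm f g : f * g = g * f))) :
    ∃ m : ℕ, dehom 𝒜 hg (f ^ m * a) ∈ J := by
  have key : awayMap 𝒜 hf (mul_comm f g : f * g = g * f) (dehom 𝒜 hg a) =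
      awayMap 𝒜 hf (mul_comm f g : f * g = g * f) (dehom 𝒜 hg f) ^ n *
        awayMap 𝒜 hg (rfl : f * g = f * g) (dehom 𝒜 hf a) := by
    apply HomogeneousLocalization.val_injective
    simp only [HomogeneousLocalization.val_mul, HomogeneousLocalization.val_pow,
      dehom_of_mem 𝒜 hg ha, dehom_of_mem 𝒜 hg hf, dehom_of_mem 𝒜 hf ha, awayMap_mk, Away.val_mk,
      Localization.mk_pow, Localization.mk_mul]
    rw [Localization.mk_eq_mk_iff, Localization.r_iff_exists]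
    exact ⟨1, by simp; ring⟩
  have hmem : awayMap 𝒜 hf (mul_comm f g : f * g = g * f) (dehom 𝒜 hg a) ∈
      J.map (awayMap 𝒜 hf (mul_comm f g : f * g = g * f)) := key ▸ Ideal.mul_mem_left _ _ h
  let := (awayMap 𝒜 hf (mul_comm f g : f * g = g * f)).toAlgebra
  have := Away.isLocalization_mul hg hf (mul_comm f g : f * g = g * f) one_ne_zero
  have helem : Away.isLocalizationElem hg hf = dehom 𝒜 hg f := by
    apply HomogeneousLocalization.val_injective
    simp [Away.isLocalizationElem, dehom_val 𝒜 hg hf]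
  obtain ⟨_, ⟨m, rfl⟩, hm⟩ := (IsLocalization.algebraMap_mem_map_algebraMap_iff
    (Submonoid.powers (Away.isLocalizationElem hg hf)) (Away 𝒜 (f * g)) J (dehom 𝒜 hg a)).mp hmem
  refine ⟨m, ?_⟩
  change _ ∈ J at hm
  rwa [map_mul, map_pow, ← helem]

section Sub

variable (I : (Proj 𝒜).IdealSheafData)

/-- The ideal of `I` on the standard affine open of a degree one element. -/
noncomputable def awayIdeal {d : ℕ} {g : A} (hg : g ∈ 𝒜 d) (hd : 0 < d) : Ideal (Away 𝒜 g) :=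
  (I.ideal ⟨_, Proj.isAffineOpen_basicOpen 𝒜 g hg hd⟩).comap (Proj.awayToSection 𝒜 g).hom

lemma awayToSection_bijective {d : ℕ} {g : A} (hg : g ∈ 𝒜 d) (hd : 0 < d) :
    Function.Bijective (Proj.awayToSection 𝒜 g).hom := by
  have : IsIso (Proj.awayToSection 𝒜 g) := (Proj.basicOpenIsoAway 𝒜 g hg hd).isIso_hom
  exact ConcreteCategory.bijective_of_isIso (Proj.awayToSection 𝒜 g)

lemma awayIdeal_map {d e : ℕ} {g h x : A} (hg : g ∈ 𝒜 d) (hd : 0 < d) (hh : h ∈ 𝒜 e) (hx : x = g * h) :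
    (awayIdeal 𝒜 I hg hd).map (awayMap 𝒜 hh hx) =
      awayIdeal 𝒜 I (hx ▸ SetLike.mul_mem_graded hg hh : x ∈ 𝒜 (d + e)) (Nat.add_pos_left hd e) := by
  have hxm : x ∈ 𝒜 (d + e) := hx ▸ SetLike.mul_mem_graded hg hh
  have hxd : 0 < d + e := Nat.add_pos_left hd e
  have hle : Proj.basicOpen 𝒜 x ≤ Proj.basicOpen 𝒜 g := Proj.basicOpen_mono _ _ _ ⟨_, hx⟩
  have hcomp := congrArg CommRingCat.Hom.hom (Proj.awayMap_awayToSection 𝒜 hh hx)
  simp only [CommRingCat.hom_comp, CommRingCat.hom_ofHom] at hcomp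
  rw [← Ideal.comap_map_of_bijective _ (awayToSection_bijective 𝒜 hxm hxd)
      (I := (awayIdeal 𝒜 I hg hd).map (awayMap 𝒜 hh hx)), Ideal.map_map, hcomp, ← Ideal.map_map,
    awayIdeal, Ideal.map_comap_of_surjective _ (awayToSection_bijective 𝒜 hg hd).2]
  exact congrArg (Ideal.comap _) (I.map_ideal
    (U := ⟨_, Proj.isAffineOpen_basicOpen 𝒜 x hxm hxd⟩)
    (V := ⟨_, Proj.isAffineOpen_basicOpen 𝒜 g hg hd⟩) hle)

/-- The graded ideal attached to an ideal sheaf. -/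
noncomputable def gradedIdeal (s : Finset A) (hs : ∀ f ∈ s, f ∈ 𝒜 1) : HomogeneousIdeal 𝒜 :=
  (⨅ g : s, (awayIdeal 𝒜 I (hs g.1 g.2) one_pos).comap (dehom 𝒜 (hs g.1 g.2))).homogeneousCore 𝒜

lemma exists_mul_mem_gradedIdeal_iff (s : Finset A) (hs : ∀ f ∈ s, f ∈ 𝒜 1) (f : A) (hf : f ∈ s)
    {n : ℕ} {a : A} (ha : a ∈ 𝒜 n) :
    (∃ m : ℕ, f ^ m * a ∈ gradedIdeal 𝒜 I s hs) ↔
      dehom 𝒜 (hs f hf) a ∈ awayIdeal 𝒜 I (hs f hf) one_pos := by
  constructor
  · rintro ⟨m, hm⟩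
    have h1 := Ideal.mem_iInf.mp (Ideal.toIdeal_homogeneousCore_le 𝒜 _ hm) ⟨f, hf⟩
    rwa [Ideal.mem_comap, map_mul, map_pow, dehom_self, one_pow, one_mul] at h1
  · intro h
    classical
    have key : ∀ g : s, ∃ m : ℕ, dehom 𝒜 (hs g.1 g.2) (f ^ m * a) ∈
        awayIdeal 𝒜 I (hs g.1 g.2) one_pos := by
      rintro ⟨g, hg⟩
      refine dehom_mul_mem_iff_exists 𝒜 (hs f hf) (hs g hg) _ ha ?_
      rw [awayIdeal_map 𝒜 I (hs g hg) one_pos (hs f hf) (mul_comm f g)]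
      have := Ideal.mem_map_of_mem (awayMap 𝒜 (hs g hg) (rfl : f * g = f * g)) h
      rwa [awayIdeal_map 𝒜 I (hs f hf) one_pos (hs g hg) rfl] at this
    choose m hm using key
    refine ⟨Finset.univ.sup m, Ideal.mem_homogeneousCore_of_homogeneous_of_mem
      ⟨_, SetLike.mul_mem_graded (SetLike.pow_mem_graded _ (hs f hf)) ha⟩ (Ideal.mem_iInf.mpr fun g => ?_)⟩
    have hle : m g ≤ Finset.univ.sup m := Finset.le_sup (Finset.mem_univ g)
    rw [Ideal.mem_comap, ← Nat.sub_add_cancel hle, pow_add, mul_assoc, map_mul]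
    exact Ideal.mul_mem_left _ _ (hm g)

/-- Every closed subscheme of `Proj 𝒜` (for `𝒜` generated in degree one by a finite set) is the
closed subscheme attached to its graded ideal. -/
theorem ker_proj_map_quotHom (s : Finset A) (hs : ∀ f ∈ s, f ∈ 𝒜 1)
    (hirr : (HomogeneousIdeal.irrelevant 𝒜).toIdeal ≤ Ideal.span (s : Set A))
    [GradedAlgebra (quotGr 𝒜 (gradedIdeal 𝒜 I s hs).toIdeal)] :
    (Proj.map (quotHom 𝒜 (gradedIdeal 𝒜 I s hs).toIdeal)
      (irrelevant_le_map_quotHom 𝒜 _)).ker = I := by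
  have hcl := proj_map_isClosedImmersion 𝒜 _ (quotHom 𝒜 (gradedIdeal 𝒜 I s hs).toIdeal) (irrelevant_le_map_quotHom 𝒜 (gradedIdeal 𝒜 I s hs).toIdeal)
    (quotHom_surjective 𝒜 (gradedIdeal 𝒜 I s hs).toIdeal)
  refine Scheme.IdealSheafData.ext_of_iSup_eq_top
    (fun g : s => ⟨_, Proj.isAffineOpen_basicOpen 𝒜 g.1 (hs g.1 g.2) one_pos⟩)
    (Proj.iSup_basicOpen_eq_top 𝒜 _ (by simpa using hirr)) (fun ⟨f, hf⟩ => ?_)
  have hqc : QuasiCompact (Proj.map (quotHom 𝒜 (gradedIdeal 𝒜 I s hs).toIdeal) (irrelevant_le_map_quotHom 𝒜 (gradedIdeal 𝒜 I s hs).toIdeal)) := by infer_instance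
  refine (Scheme.Hom.ker_apply _ _).trans ?_
  ext y
  obtain ⟨x, rfl⟩ := (awayToSection_bijective 𝒜 (hs f hf) one_pos).2 y
  obtain ⟨n, a, ha, rfl⟩ := Away.mk_surjective 𝒜 (hs f hf) x
  have ha' : a ∈ 𝒜 n := by simpa using ha
  have hfB : quotHom 𝒜 (gradedIdeal 𝒜 I s hs).toIdeal f ∈ quotGr 𝒜 (gradedIdeal 𝒜 I s hs).toIdeal 1 := (quotHom 𝒜 (gradedIdeal 𝒜 I s hs).toIdeal).2 (hs f hf)
  rw [RingHom.mem_ker, Scheme.Hom.app_eq_appLE]
  have hc := congrArg (fun φ => φ.hom (Away.mk 𝒜 (hs f hf) n a ha))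
    (Proj.awayToSection_comp_appLE (quotHom 𝒜 (gradedIdeal 𝒜 I s hs).toIdeal) (irrelevant_le_map_quotHom 𝒜 (gradedIdeal 𝒜 I s hs).toIdeal) (hs f hf))
  simp only [CommRingCat.hom_comp, RingHom.comp_apply, CommRingCat.hom_ofHom] at hc
  erw [hc]
  refine (map_eq_zero_iff _ (awayToSection_bijective _ hfB one_pos).1).trans ?_
  have h2 := exists_mul_mem_gradedIdeal_iff 𝒜 I s hs f hf ha'
  rw [dehom_of_mem 𝒜 (hs f hf) ha'] at h2
  refine Iff.trans ?_ h2
  rw [Away.map_mk]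
  refine (HomogeneousLocalization.val_injective _).eq_iff.symm.trans ?_
  rw [HomogeneousLocalization.val_zero, Away.val_mk, Localization.mk_eq_mk',
    IsLocalization.mk'_eq_zero_iff]
  constructor
  · rintro ⟨⟨_, m, rfl⟩, hm⟩
    refine ⟨m, Ideal.Quotient.eq_zero_iff_mem.mp ?_⟩
    rw [map_mul, map_pow]
    exact hm
  · rintro ⟨m, hm⟩
    refine ⟨⟨_, m, rfl⟩, ?_⟩
    have := Ideal.Quotient.eq_zero_iff_mem.mpr hm
    rw [map_mul, map_pow] at this
    exact this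

end Sub

end Groth.Agent.EGA2G
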