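import Groth.Agent.EGA2G.ProjBasic

/-! Properties of `Proj.map`. -/

universe u

namespace Groth.Agent.EGA2G

open CategoryTheory AlgebraicGeometry DirectSum HomogeneousLocalization TopologicalSpace

variable {R A : Type u} [CommRing R] [CommRing A] [Algebra R A] (𝒜 : ℕ → Submodule R A) [GradedAlgebra 𝒜]
  {B : Type u} [CommRing B] [Algebra R B] (ℬ : ℕ → Submodule R B) [GradedAlgebra ℬ]
  (φ : 𝒜 →+*ᵍ ℬ) (hφ : HomogeneousIdeal.irrelevant ℬ ≤ (HomogeneousIdeal.irrelevant 𝒜).map φ)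

lemma proj_map_mem_iff {P : MorphismProperty Scheme.{u}} [P.RespectsIso] {d : ℕ} (hd : 0 < d) (s : A)
    (hs : s ∈ 𝒜 d) :
    P (Proj.map φ hφ ∣_ Proj.basicOpen 𝒜 s) ↔ P (Spec.map (CommRingCat.ofHom (Away.map φ s))) := by
  refine P.arrow_mk_iso_iff (Arrow.isoMk
    (Scheme.isoOfEq _ (Proj.map_preimage_basicOpen φ hφ s) ≪≫ Proj.basicOpenIsoSpec ℬ (φ s) (φ.2 hs) hd)
    (Proj.basicOpenIsoSpec 𝒜 s hs hd) ?_)
  simp only [Arrow.mk_hom, Iso.trans_hom, Category.assoc]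
  rw [← cancel_mono (Proj.awayι 𝒜 s hs hd), Category.assoc, Category.assoc, Category.assoc,
    ← Proj.awayι_comp_map φ hφ hd s hs]
  simp only [Proj.awayι, Category.assoc, Iso.hom_inv_id_assoc]
  rw [morphismRestrict_ι, Scheme.isoOfEq_hom_ι_assoc]

lemma proj_map_of_forall (P : MorphismProperty Scheme.{u}) [IsZariskiLocalAtTarget P]
    (h : ∀ (d : ℕ), 0 < d → ∀ s ∈ 𝒜 d, P (Spec.map (CommRingCat.ofHom (Away.map φ s)))) :
    P (Proj.map φ hφ) :=
  IsZariskiLocalAtTarget.of_iSup_eq_top _ (iSup_basicOpen_pos_eq_top 𝒜) fun i =>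
    (proj_map_mem_iff 𝒜 ℬ φ hφ i.1.2 _ i.2.2).mpr (h _ i.1.2 _ i.2.2)

omit hφ in
lemma away_map_surjective (hsurj : Function.Surjective φ) {d : ℕ} (s : A) (hs : s ∈ 𝒜 d) :
    Function.Surjective (Away.map φ s) := by
  intro x
  obtain ⟨n, b, hb, rfl⟩ := Away.mk_surjective ℬ (φ.2 hs : φ s ∈ ℬ d) x
  obtain ⟨a, rfl⟩ := hsurj b
  refine ⟨Away.mk 𝒜 hs n _ (decompose 𝒜 a (n • d)).2, ?_⟩
  rw [Away.map_mk]
  apply HomogeneousLocalization.val_injective
  simp only [Away.val_mk, GradedRingHom.map_directSumDecompose, decompose_of_mem_same ℬ hb]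
  rfl

lemma proj_map_isClosedImmersion (hsurj : Function.Surjective φ) :
    IsClosedImmersion (Proj.map φ hφ) :=
  proj_map_of_forall 𝒜 ℬ φ hφ @IsClosedImmersion fun _ _ s hs =>
    IsClosedImmersion.spec_of_surjective _ (away_map_surjective 𝒜 ℬ φ hsurj s hs)

/-- Homogeneous elements of positive degree give a basis. -/
lemma exists_basicOpen_le {U : Opens ↥(Proj 𝒜)} {x : ProjectiveSpectrum 𝒜} (hx : x ∈ U) :
    ∃ (d : ℕ) (s : A), 0 < d ∧ s ∈ 𝒜 d ∧ s ∉ x.asHomogeneousIdeal ∧ Proj.basicOpen 𝒜 s ≤ U := by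
  classical
  obtain ⟨_, ⟨f, rfl⟩, hxf, hfU⟩ :=
    (ProjectiveSpectrum.isTopologicalBasis_basic_opens 𝒜).exists_subset_of_mem_open hx U.2
  rw [SetLike.mem_coe, ProjectiveSpectrum.basicOpen_eq_union_of_projection, Opens.mem_iSup] at hxf
  obtain ⟨i, hi⟩ := hxf
  obtain ⟨j, hj⟩ := Opens.mem_iSup.mp ((iSup_basicOpen_pos_eq_top 𝒜).ge (Set.mem_univ x))
  refine ⟨i + j.1, (decompose 𝒜 f i : A) * j.2, Nat.add_pos_right _ j.1.2,
    SetLike.mul_mem_graded (Subtype.prop _) j.2.2, ?_, ?_⟩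
  · intro h
    rcases x.isPrime.mem_or_mem h with h | h
    · exact hi h
    · exact hj h
  · refine le_trans ?_ hfU
    rw [Proj.basicOpen_mul]
    refine le_trans inf_le_left ?_
    intro y hy
    change y ∈ ProjectiveSpectrum.basicOpen 𝒜 f
    rw [ProjectiveSpectrum.basicOpen_eq_union_of_projection]
    exact Opens.mem_iSup.mpr ⟨i, hy⟩

lemma proj_map_denseRange (hker : ∀ a : A, φ a = 0 → IsNilpotent a) :
    DenseRange (Proj.map φ hφ).base := by
  refine dense_iff_inter_open.mpr fun U hU ⟨x, hx⟩ => ?_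
  obtain ⟨d, s, hd, hs, hsx, hle⟩ := exists_basicOpen_le 𝒜 (U := ⟨U, hU⟩) (x := x) hx
  have hns : ¬ IsNilpotent (φ s) := by
    rintro ⟨n, hn⟩
    obtain ⟨m, hm⟩ := hker (s ^ n) (by rwa [map_pow])
    exact hsx (x.isPrime.mem_of_pow_mem (n * m) (by rw [pow_mul, hm]; exact Ideal.zero_mem _))
  obtain ⟨y, hy⟩ : ∃ y : ProjectiveSpectrum ℬ, φ s ∉ y.asHomogeneousIdeal := by
    by_contra! H
    refine hns ((zeroLocus_eq_univ_iff ℬ {φ s}
      (Set.singleton_subset_iff.mpr (mem_irrelevant ℬ hd (φ.2 hs)))).mp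
      (Set.eq_univ_of_forall fun y => Set.singleton_subset_iff.mpr (H y)) _ rfl)
  refine ⟨(Proj.map φ hφ).base y, ?_, y, rfl⟩
  have : y ∈ Proj.map φ hφ ⁻¹ᵁ Proj.basicOpen 𝒜 s := hy
  exact hle this

lemma ker_ι_eq_bot {d : ℕ} (hd : 0 < d) (g : A) (hg : g ∈ 𝒜 d) (hnz : g ∈ nonZeroDivisors A) :
    (Proj.basicOpen 𝒜 g).ι.ker = ⊥ := by
  have haff : IsAffineHom (Proj.basicOpen 𝒜 g).ι := by
    refine isAffineHom_of_forall_exists_isAffineOpen _ fun x => ?_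
    obtain ⟨i, hi⟩ := Opens.mem_iSup.mp ((iSup_basicOpen_pos_eq_top 𝒜).ge (Set.mem_univ x))
    refine ⟨_, hi, Proj.isAffineOpen_basicOpen 𝒜 _ i.2.2 i.1.2, ?_⟩
    have : IsAffineOpen ((Proj.basicOpen 𝒜 g) ⊓ Proj.basicOpen 𝒜 (i.2 : A)) := by
      rw [← Proj.basicOpen_mul]
      exact Proj.isAffineOpen_basicOpen 𝒜 _ (SetLike.mul_mem_graded hg i.2.2) (by omega)
    rw [← (Scheme.Hom.isAffineOpen_iff_of_isOpenImmersion (Proj.basicOpen 𝒜 g).ι),
      Scheme.Hom.image_preimage_eq_opensRange_inf, Scheme.Opens.opensRange_ι]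
    exact this
  refine Scheme.IdealSheafData.ext_of_iSup_eq_top
    (fun i : (Σ i : PNat, 𝒜 i) => ⟨_, Proj.isAffineOpen_basicOpen 𝒜 _ i.2.2 i.1.2⟩)
    (iSup_basicOpen_pos_eq_top 𝒜) fun i => ?_
  rw [Scheme.Hom.ker_apply, Scheme.IdealSheafData.ideal_bot, Pi.bot_apply]
  rw [← RingHom.injective_iff_ker_eq_bot, Scheme.Opens.ι_app]
  set V := Proj.basicOpen 𝒜 (i.2 : A)
  have hle : Proj.basicOpen 𝒜 ((i.2 : A) * g) =
      (Proj.basicOpen 𝒜 g).ι ''ᵁ (Proj.basicOpen 𝒜 g).ι ⁻¹ᵁ V := by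
    rw [Scheme.Hom.image_preimage_eq_opensRange_inf, Scheme.Opens.opensRange_ι, Proj.basicOpen_mul,
      inf_comm]
  have hinj : Function.Injective
      ((Proj 𝒜).presheaf.map (homOfLE (Proj.basicOpen_mono 𝒜 (i.2 : A) ((i.2 : A) * g)
        ⟨g, rfl⟩)).op) := by
    have key := Proj.awayMap_awayToSection 𝒜 (f := (i.2 : A)) (x := (i.2 : A) * g) hg rfl
    have e1 := (Proj.basicOpenIsoAway 𝒜 (i.2 : A) i.2.2 i.1.2)
    have hiso1 : IsIso (Proj.awayToSection 𝒜 (i.2 : A)) :=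
      (Proj.basicOpenIsoAway 𝒜 (i.2 : A) i.2.2 i.1.2).isIso_hom
    have hiso2 : IsIso (Proj.awayToSection 𝒜 ((i.2 : A) * g)) :=
      (Proj.basicOpenIsoAway 𝒜 _ (SetLike.mul_mem_graded i.2.2 hg)
        (Nat.add_pos_left i.1.2 _)).isIso_hom
    rw [← IsIso.inv_comp_eq] at key
    rw [← key]
    simp only [CommRingCat.hom_comp, RingHom.coe_comp]
    refine Function.Injective.comp (Function.Injective.comp
      (ConcreteCategory.bijective_of_isIso (Proj.awayToSection 𝒜 ((i.2 : A) * g))).injective ?_)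
      (ConcreteCategory.bijective_of_isIso (inv (Proj.awayToSection 𝒜 (i.2 : A)))).injective
    rw [CommRingCat.hom_ofHom, injective_iff_map_eq_zero]
    intro a ha
    obtain ⟨n, a, ha', rfl⟩ := Away.mk_surjective 𝒜 i.2.2 a
    apply HomogeneousLocalization.val_injective
    replace ha := congrArg HomogeneousLocalization.val ha
    rw [awayMap_mk, Away.val_mk, val_zero, Localization.mk_eq_mk',
      IsLocalization.mk'_eq_zero_iff] at ha
    rw [val_zero, Away.val_mk, Localization.mk_eq_mk', IsLocalization.mk'_eq_zero_iff]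
    obtain ⟨⟨_, k, rfl⟩, hk⟩ := ha
    refine ⟨⟨_, k, rfl⟩, ?_⟩
    apply (mul_cancel_right_mem_nonZeroDivisors (pow_mem hnz (k + n))).mp
    simp only at hk ⊢
    rw [zero_mul, ← hk]
    ring
  intro p q hpq
  apply hinj
  have h2 := congrArg ((Proj 𝒜).presheaf.map (homOfLE hle.le).op) hpq
  have e : ∀ z, ((Proj 𝒜).presheaf.map (homOfLE hle.le).op)
      (((Proj 𝒜).presheaf.map (homOfLE (Scheme.Hom.image_preimage_le _ V)).op) z) =
      (Proj 𝒜).presheaf.map (homOfLE (Proj.basicOpen_mono 𝒜 (i.2 : A) ((i.2 : A) * g) ⟨g, rfl⟩)).op z := fun z => by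
    rw [← CommRingCat.comp_apply, ← Functor.map_comp]; rfl
  exact (e p).symm.trans (h2.trans (e q))

lemma isIrreducible_iff {Z : Set (ProjectiveSpectrum 𝒜)} (hZ : IsClosed Z) :
    IsIrreducible Z ↔
      (¬ (HomogeneousIdeal.irrelevant 𝒜).toIdeal ≤ (ProjectiveSpectrum.vanishingIdeal Z).toIdeal ∧
        ∀ f ∈ (HomogeneousIdeal.irrelevant 𝒜).toIdeal, ∀ g ∈ (HomogeneousIdeal.irrelevant 𝒜).toIdeal,
          f * g ∈ (ProjectiveSpectrum.vanishingIdeal Z).toIdeal →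
            f ∈ (ProjectiveSpectrum.vanishingIdeal Z).toIdeal ∨
              g ∈ (ProjectiveSpectrum.vanishingIdeal Z).toIdeal) := by
  simp only [HomogeneousIdeal.mem_iff, ProjectiveSpectrum.mem_vanishingIdeal]
  constructor
  · intro h
    refine ⟨fun hle => ?_, fun f _ g _ hfg => ?_⟩
    · obtain ⟨z, hz⟩ := h.nonempty
      exact z.not_irrelevant_le fun a ha =>
        (ProjectiveSpectrum.mem_vanishingIdeal _ _).mp (hle ha) z hz
    · refine (isPreirreducible_iff_isClosed_union_isClosed.mp h.isPreirreducible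
        _ _ (ProjectiveSpectrum.isClosed_zeroLocus 𝒜 {f})
        (ProjectiveSpectrum.isClosed_zeroLocus 𝒜 {g}) fun z hz => ?_).imp
        (fun hh z hz => hh hz rfl) (fun hh z hz => hh hz rfl)
      exact (z.isPrime.mem_or_mem (hfg z hz)).imp
        (fun hh => Set.singleton_subset_iff.mpr hh) (fun hh => Set.singleton_subset_iff.mpr hh)
  · rintro ⟨h1, h2⟩
    refine ⟨?_, isPreirreducible_iff_isClosed_union_isClosed.mpr fun z₁ z₂ hz₁ hz₂ hsub => ?_⟩
    · rcases Z.eq_empty_or_nonempty with rfl | hne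
      · exact absurd (fun a _ => (ProjectiveSpectrum.mem_vanishingIdeal _ _).mpr fun z hz => hz.elim) h1
      · exact hne
    · by_contra hcon
      push Not at hcon
      obtain ⟨x, hxZ, hx⟩ := Set.not_subset.mp hcon.1
      obtain ⟨y, hyZ, hy⟩ := Set.not_subset.mp hcon.2
      obtain ⟨d, f, hd, hf, hfx, hfle⟩ := exists_basicOpen_le 𝒜 (U := ⟨z₁ᶜ, hz₁.isOpen_compl⟩) hx
      obtain ⟨e, g, he, hg, hgy, hgle⟩ := exists_basicOpen_le 𝒜 (U := ⟨z₂ᶜ, hz₂.isOpen_compl⟩) hy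
      rcases h2 f (mem_irrelevant 𝒜 hd hf) g (mem_irrelevant 𝒜 he hg) (fun z hz => by
        rcases hsub hz with h | h
        · exact Ideal.mul_mem_right _ _ (not_not.mp fun hn => (hfle hn) h)
        · exact Ideal.mul_mem_left _ _ (not_not.mp fun hn => (hgle hn) h)) with h | h
      · exact hfx (h x hxZ)
      · exact hgy (h y hyZ)

lemma proj_isIntegral_iff
    (hred : ∀ f ∈ (HomogeneousIdeal.irrelevant 𝒜).toIdeal, IsNilpotent f → f = 0) :
    AlgebraicGeometry.IsIntegral (Proj 𝒜) ↔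
      ((∃ f ∈ (HomogeneousIdeal.irrelevant 𝒜).toIdeal, f ≠ 0) ∧
        ∀ f ∈ (HomogeneousIdeal.irrelevant 𝒜).toIdeal, ∀ g ∈ (HomogeneousIdeal.irrelevant 𝒜).toIdeal,
          f * g = 0 → f = 0 ∨ g = 0) := by
  have := proj_isReduced 𝒜 hred
  have hirr : IrreducibleSpace ↥(Proj 𝒜) ↔ IsIrreducible (Set.univ : Set (ProjectiveSpectrum 𝒜)) :=
    irreducibleSpace_def _
  rw [isIntegral_iff_irreducibleSpace_and_isReduced, and_iff_left this, hirr,
    isIrreducible_iff 𝒜 isClosed_univ]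
  have hz : ∀ f ∈ (HomogeneousIdeal.irrelevant 𝒜).toIdeal,
      (f ∈ (ProjectiveSpectrum.vanishingIdeal (Set.univ : Set (ProjectiveSpectrum 𝒜))).toIdeal ↔
        f = 0) := by
    intro f hf
    rw [HomogeneousIdeal.mem_iff, ProjectiveSpectrum.mem_vanishingIdeal]
    refine ⟨fun h => hred f hf ((zeroLocus_eq_univ_iff 𝒜 {f} (Set.singleton_subset_iff.mpr hf)).mp
      (Set.eq_univ_of_forall fun z => Set.singleton_subset_iff.mpr (h z trivial)) f rfl), ?_⟩
    rintro rfl z -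
    exact zero_mem _
  refine and_congr ?_ (forall₂_congr fun f hf => forall₂_congr fun g hg => ?_)
  · rw [SetLike.not_le_iff_exists]
    exact exists_congr fun f => ⟨fun ⟨a, b⟩ => ⟨a, fun h0 => b ((hz f a).mpr h0)⟩,
      fun ⟨a, b⟩ => ⟨a, fun h0 => b ((hz f a).mp h0)⟩⟩
  · rw [hz f hf, hz g hg, hz (f * g) (Ideal.mul_mem_right _ _ hf)]

end Groth.Agent.EGA2G
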