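import Groth.Agent.EGA2G.Graded
import Mathlib.Algebra.Polynomial.AlgebraMap
import Mathlib.Algebra.Polynomial.Inductions

/-! The projective cone `A[z]`. -/

namespace Groth.Agent.EGA2G

open DirectSum SetLike Polynomial

variable {R A : Type*} [CommRing R] [CommRing A] [Algebra R A] {𝒜 : ℕ → Submodule R A} [GradedAlgebra 𝒜]
  {B : Type*} [CommRing B] [Algebra R B] {ℬ : ℕ → Submodule R B} [GradedAlgebra ℬ] [Algebra A B]
  (φ : 𝒜 →+*ᵍ ℬ) (hφ : ∀ a : A, φ a = algebraMap A B a) {z : B} (hz : z ∈ ℬ 1)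
  (hhat : Function.Bijective (Polynomial.aeval (R := A) z))

include hφ hz hhat in
lemma cone_coeff_mem {p : A[X]} {n : ℕ} (hp : aeval z p ∈ ℬ n) (j : ℕ) :
    p.coeff j ∈ (if j ≤ n then 𝒜 (n - j) else ⊥ : Submodule R A) := by
  classical
  let q : A[X] := ∑ i ∈ p.support, if i ≤ n then monomial i (decompose 𝒜 (p.coeff i) (n - i) : A) else 0
  have hq : q = p := by
    apply hhat.1
    have h1 : (decompose ℬ (aeval z p) n : B) = aeval z p := decompose_of_mem_same ℬ hp
    rw [← h1]
    conv_rhs => rw [aeval_def, eval₂_eq_sum, Polynomial.sum, decompose_sum, DFinsupp.finsetSum_apply,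
      AddSubmonoidClass.coe_finsetSum]
    rw [map_sum]
    refine Finset.sum_congr rfl fun i _ => ?_
    have hzi : z ^ i ∈ ℬ i := by simpa using SetLike.pow_mem_graded i hz
    rw [coe_decompose_mul_of_right_mem ℬ n hzi]
    split_ifs
    · rw [aeval_monomial, ← hφ, ← hφ, GradedRingHom.map_directSumDecompose]
    · simp
  have hc : p.coeff j = q.coeff j := by rw [hq]
  rw [hc]
  simp only [q, finset_sum_coeff]
  refine sum_mem fun i _ => ?_
  by_cases hi : i ≤ n
  · rw [if_pos hi, coeff_monomial]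
    split_ifs <;> first | exact zero_mem _ | (subst_vars; first | exact Subtype.prop _ | omega)
  · rw [if_neg hi, coeff_zero]
    exact zero_mem _

include hφ hz hhat in
/-- Dehomogenisation at `z` is injective on each degree. -/
lemma cone_eq_zero {p : A[X]} {n : ℕ} (hp : aeval z p ∈ ℬ n) (h : p.eval 1 = 0) : p = 0 := by
  classical
  ext j
  have hmem := cone_coeff_mem φ hφ hz hhat hp j
  split_ifs at hmem with hj
  swap
  · simpa using (Submodule.mem_bot R).mp hmem
  have := congrArg (fun a => (decompose 𝒜 a (n - j) : A)) h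
  simp only [eval_eq_sum, Polynomial.sum, one_pow, mul_one, decompose_zero, DirectSum.zero_apply,
    ZeroMemClass.coe_zero] at this
  rw [decompose_sum, DFinsupp.finsetSum_apply, AddSubmonoidClass.coe_finsetSum] at this
  have e : ∑ i ∈ p.support, (decompose 𝒜 (p.coeff i) (n - j) : A) = (decompose 𝒜 (p.coeff j) (n - j) : A) := by
    refine Finset.sum_eq_single j (fun i _ hij => ?_) fun hjs => by simp [notMem_support_iff.mp hjs]
    have hi := cone_coeff_mem φ hφ hz hhat hp i
    split_ifs at hi with hin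
    · exact decompose_of_mem_ne 𝒜 hi (by omega)
    · simp [(Submodule.mem_bot R).mp hi]
  rw [e, decompose_of_mem_same 𝒜 hmem] at this
  simpa using this

include hφ in
lemma cone_sub_mem_span (ψ : ℬ →+*ᵍ 𝒜) (hψφ : ∀ a : A, ψ (φ a) = a) (hψz : ψ z = 0)
    (hhat : Function.Bijective (Polynomial.aeval (R := A) z)) (b : B) :
    b - φ (ψ b) ∈ Ideal.span {z} := by
  obtain ⟨p, rfl⟩ := hhat.2 b
  have h : aeval z p = z * aeval z p.divX + algebraMap A B (p.coeff 0) := by
    conv_lhs => rw [← X_mul_divX_add p]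
    simp only [map_add, map_mul, aeval_X, aeval_C]
  rw [h, map_add, map_mul, hψz, zero_mul, zero_add, ← hφ, hψφ, add_sub_cancel_right]
  exact Ideal.mul_mem_right _ _ (Ideal.subset_span rfl)

end Groth.Agent.EGA2G
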