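import Mathlib.RingTheory.GradedAlgebra.FiniteType
import Mathlib.RingTheory.GradedAlgebra.Noetherian
import Mathlib.RingTheory.GradedAlgebra.Radical
import Mathlib.RingTheory.GradedAlgebra.HomogeneousLocalization
import Mathlib.AlgebraicGeometry.ProjectiveSpectrum.Topology
import Mathlib.RingTheory.Adjoin.Basic
import Mathlib.RingTheory.Ideal.Operations

/-! Basic facts on ℕ-graded rings. -/

namespace Groth.Agent.EGA2G

open DirectSum SetLike

variable {R A : Type*} [CommRing R] [CommRing A] [Algebra R A] (𝒜 : ℕ → Submodule R A) [GradedAlgebra 𝒜]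

/-- `proj` of a homogeneous element is itself or zero. -/
lemma decompose_coe_of_mem {x : A} {i : ℕ} (hx : x ∈ 𝒜 i) (j : ℕ) :
    (decompose 𝒜 x j : A) = if i = j then x else 0 := by
  split_ifs with h
  · subst h; exact decompose_of_mem_same 𝒜 hx
  · exact decompose_of_mem_ne 𝒜 hx h

lemma mem_irrelevant {x : A} {i : ℕ} (hi : 0 < i) (hx : x ∈ 𝒜 i) :
    x ∈ (HomogeneousIdeal.irrelevant 𝒜).toIdeal :=
  HomogeneousIdeal.mem_irrelevant_of_mem 𝒜 hi hx

lemma sub_decompose_zero_mem_irrelevant (x : A) :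
    x - (decompose 𝒜 x 0 : A) ∈ (HomogeneousIdeal.irrelevant 𝒜).toIdeal := by
  rw [HomogeneousIdeal.mem_iff, HomogeneousIdeal.mem_irrelevant_iff, GradedRing.proj_apply,
    decompose_sub, sub_apply, AddSubgroupClass.coe_sub, decompose_of_mem_same 𝒜 (Subtype.prop _),
    sub_self]

/-- If homogeneous elements generate the algebra over degree zero, those of positive degree generate
the irrelevant ideal. -/
lemma irrelevant_le_span_of_adjoin_eq_top (E : Set A) (hE : ∀ e ∈ E, ∃ d : ℕ, 0 < d ∧ e ∈ 𝒜 d)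
    (h : Algebra.adjoin (𝒜 0) E = ⊤) :
    (HomogeneousIdeal.irrelevant 𝒜).toIdeal ≤ Ideal.span E := by
  intro x hx
  have key : ∀ y : A, y - (decompose 𝒜 y 0 : A) ∈ Ideal.span E := by
    intro y
    have hy : y ∈ Algebra.adjoin (𝒜 0) E := by rw [h]; trivial
    induction hy using Algebra.adjoin_induction with
    | mem z hz =>
      obtain ⟨d, hd, hzd⟩ := hE z hz
      rw [decompose_of_mem_ne 𝒜 hzd hd.ne', sub_zero]
      exact Ideal.subset_span hz
    | algebraMap r =>
      have : algebraMap (𝒜 0) A r = (r : A) := rfl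
      rw [this, decompose_of_mem_same 𝒜 r.2, sub_self]
      exact zero_mem _
    | add a b _ _ ha hb =>
      rw [decompose_add, DirectSum.add_apply, Submodule.coe_add, add_sub_add_comm]
      exact add_mem ha hb
    | mul a b _ _ ha hb =>
      have : (decompose 𝒜 (a * b) 0 : A) = (decompose 𝒜 a 0 : A) * (decompose 𝒜 b 0 : A) := by
        simpa [GradedRing.projZeroRingHom_apply] using map_mul (GradedRing.projZeroRingHom 𝒜) a b
      rw [this]
      convert add_mem (Ideal.mul_mem_left _ a hb)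
        (Ideal.mul_mem_right (decompose 𝒜 b 0 : A) _ ha) using 1
      ring
  have := key x
  rw [HomogeneousIdeal.mem_iff, HomogeneousIdeal.mem_irrelevant_iff, GradedRing.proj_apply] at hx
  rwa [hx, sub_zero] at this

/-- If a set of homogeneous elements generates the irrelevant ideal, it generates the algebra over
degree zero. -/
lemma adjoin_eq_top_of_irrelevant_le_span (E : Set A) (hE : ∀ e ∈ E, ∃ d : ℕ, 0 < d ∧ e ∈ 𝒜 d)
    (h : (HomogeneousIdeal.irrelevant 𝒜).toIdeal ≤ Ideal.span E) :
    Algebra.adjoin (𝒜 0) E = ⊤ := by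
  classical
  suffices ∀ n, ∀ x ∈ 𝒜 n, x ∈ Algebra.adjoin (𝒜 0) E by
    refine top_le_iff.mp fun x _ => ?_
    rw [← sum_support_decompose 𝒜 x]
    exact sum_mem fun i _ => this i _ (Subtype.prop _)
  intro n
  induction n using Nat.strong_induction_on with
  | _ n ih =>
    intro x hx
    rcases Nat.eq_zero_or_pos n with rfl | hn
    · exact Subalgebra.algebraMap_mem _ (⟨x, hx⟩ : 𝒜 0)
    suffices ∀ y ∈ Ideal.span E, ∀ a : A, (decompose 𝒜 (a * y) n : A) ∈ Algebra.adjoin (𝒜 0) E by
      have := this x (h (mem_irrelevant 𝒜 hn hx)) 1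
      rwa [one_mul, decompose_of_mem_same 𝒜 hx] at this
    intro y hy
    induction hy using Submodule.span_induction with
    | mem z hz =>
      intro a
      obtain ⟨d, hd, hzd⟩ := hE z hz
      rw [coe_decompose_mul_of_right_mem 𝒜 n hzd]
      split_ifs
      · exact mul_mem (ih (n - d) (by omega) _ (Subtype.prop _)) (Algebra.subset_adjoin hz)
      · exact zero_mem _
    | zero => intro a; simp
    | add b c _ _ hb hc =>
      intro a
      rw [mul_add, decompose_add, DirectSum.add_apply, Submodule.coe_add]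
      exact add_mem (hb a) (hc a)
    | smul b z _ hz =>
      intro a
      rw [smul_eq_mul, ← mul_assoc]
      exact hz (a * b)

/-- The criterion of generation. -/
lemma irrelevant_eq_span_iff (E : Set A) (hE : ∀ e ∈ E, ∃ d : ℕ, 0 < d ∧ e ∈ 𝒜 d) :
    (HomogeneousIdeal.irrelevant 𝒜).toIdeal = Ideal.span E ↔ Algebra.adjoin (𝒜 0) E = ⊤ := by
  refine ⟨fun h => adjoin_eq_top_of_irrelevant_le_span 𝒜 E hE h.le, fun h => le_antisymm
    (irrelevant_le_span_of_adjoin_eq_top 𝒜 E hE h) (Ideal.span_le.mpr fun e he => ?_)⟩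
  obtain ⟨d, hd, hed⟩ := hE e he
  exact mem_irrelevant 𝒜 hd hed

variable {𝒜} in
/-- If the irrelevant ideal is finitely generated, finitely many homogeneous elements of positive degree
generate it. -/
lemma exists_finset_of_irrelevant_fg (hfg : (HomogeneousIdeal.irrelevant 𝒜).toIdeal.FG) :
    ∃ s : Finset A, (∀ e ∈ s, ∃ d : ℕ, 0 < d ∧ e ∈ 𝒜 d) ∧
      (HomogeneousIdeal.irrelevant 𝒜).toIdeal = Ideal.span (s : Set A) := by
  classical
  obtain ⟨t, ht⟩ := hfg
  let s : Finset A := t.biUnion fun x =>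
    (((decompose 𝒜 x).support.erase 0)).image fun i => (decompose 𝒜 x i : A)
  have hs : ∀ e ∈ s, ∃ d : ℕ, 0 < d ∧ e ∈ 𝒜 d := by
    intro e he
    simp only [s, Finset.mem_biUnion, Finset.mem_image, Finset.mem_erase] at he
    obtain ⟨x, -, i, ⟨hi, -⟩, rfl⟩ := he
    exact ⟨i, Nat.pos_of_ne_zero hi, Subtype.prop _⟩
  refine ⟨s, hs, le_antisymm ?_ (Ideal.span_le.mpr fun e he => ?_)⟩
  · rw [← ht]
    refine Ideal.span_le.mpr fun x hx => ?_
    rw [SetLike.mem_coe, ← sum_support_decompose 𝒜 x]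
    refine sum_mem fun i hi => ?_
    rcases eq_or_ne i 0 with rfl | hi0
    · have hx' : x ∈ (HomogeneousIdeal.irrelevant 𝒜).toIdeal := ht ▸ Ideal.subset_span hx
      rw [HomogeneousIdeal.mem_iff, HomogeneousIdeal.mem_irrelevant_iff, GradedRing.proj_apply]
        at hx'
      rw [hx']
      exact zero_mem _
    · refine Ideal.subset_span ?_
      simp only [s, Finset.mem_coe, Finset.mem_biUnion, Finset.mem_image, Finset.mem_erase]
      exact ⟨x, hx, i, ⟨hi0, hi⟩, rfl⟩
  · obtain ⟨d, hd, hed⟩ := hs e he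
    exact mem_irrelevant 𝒜 hd hed

lemma irrelevant_fg_iff :
    (HomogeneousIdeal.irrelevant 𝒜).toIdeal.FG ↔ Algebra.FiniteType (𝒜 0) A := by
  refine ⟨fun h => ?_, fun h => ?_⟩
  · obtain ⟨s, hs, hspan⟩ := exists_finset_of_irrelevant_fg h
    exact ⟨⟨s, (irrelevant_eq_span_iff 𝒜 _ hs).mp hspan⟩⟩
  · obtain ⟨s, hs, hhom⟩ := GradedAlgebra.exists_finset_adjoin_eq_top_and_homogeneous_ne_zero 𝒜
    refine ⟨s, ((irrelevant_eq_span_iff 𝒜 _ fun e he => ?_).mpr hs).symm⟩
    obtain ⟨n, hn, hen⟩ := hhom e he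
    exact ⟨n, Nat.pos_of_ne_zero hn, hen⟩

lemma isNoetherianRing_iff :
    IsNoetherianRing A ↔ IsNoetherianRing (𝒜 0) ∧ Algebra.FiniteType (𝒜 0) A := by
  refine ⟨fun h => ⟨inferInstance, (irrelevant_fg_iff 𝒜).mp (IsNoetherian.noetherian _)⟩,
    fun ⟨h₁, h₂⟩ => Algebra.FiniteType.isNoetherianRing (𝒜 0) A⟩

/-- Every homogeneous element is in the span over degree zero of the monomials of its degree. -/
lemma mem_span_monomials {ι : Type*} [Fintype ι] (x : ι → A) (d : ι → ℕ) (hx : ∀ i, x i ∈ 𝒜 (d i))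
    (h : Algebra.adjoin (𝒜 0) (Set.range x) = ⊤) {k : ℕ} {y : A} (hy : y ∈ 𝒜 k) :
    y ∈ Submodule.span (𝒜 0) {m : A | ∃ a : ι → ℕ, ∑ i, a i * d i = k ∧ m = ∏ i, x i ^ a i} := by
  have hy' : y ∈ Subalgebra.toSubmodule (Algebra.adjoin (𝒜 0) (Set.range x)) := by
    rw [h]; trivial
  rw [Algebra.adjoin_eq_span] at hy'
  have key : ∀ z ∈ Submodule.span (𝒜 0) (Submonoid.closure (Set.range x) : Set A),
      (decompose 𝒜 z k : A) ∈
        Submodule.span (𝒜 0) {m : A | ∃ a : ι → ℕ, ∑ i, a i * d i = k ∧ m = ∏ i, x i ^ a i} := by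
    intro z hz
    induction hz using Submodule.span_induction with
    | mem m hm =>
      have hm' : ∃ a : ι → ℕ, m = ∏ i, x i ^ a i := by
        classical
        induction hm using Submonoid.closure_induction with
        | mem z hz =>
          obtain ⟨j, rfl⟩ := hz
          exact ⟨Pi.single j 1, by simp [Pi.single_apply, pow_ite, Finset.prod_ite_eq']⟩
        | one => exact ⟨0, by simp⟩
        | mul p q _ _ hp hq =>
          obtain ⟨a, rfl⟩ := hp
          obtain ⟨b, rfl⟩ := hq
          exact ⟨a + b, by simp [pow_add, Finset.prod_mul_distrib]⟩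
      obtain ⟨a, rfl⟩ := hm'
      have hmem : ∏ i, x i ^ a i ∈ 𝒜 (∑ i, a i * d i) := by
        refine SetLike.prod_mem_graded _ _ _ fun i _ => ?_
        simpa using SetLike.pow_mem_graded (a i) (hx i)
      rw [decompose_coe_of_mem 𝒜 hmem]
      split_ifs with hk
      · exact Submodule.subset_span ⟨a, hk, rfl⟩
      · exact zero_mem _
    | zero => simp
    | add b c _ _ hb hc =>
      rw [decompose_add, DirectSum.add_apply, Submodule.coe_add]
      exact add_mem hb hc
    | smul c z _ hz =>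
      have : (decompose 𝒜 (c • z) k : A) = c • (decompose 𝒜 z k : A) := by
        rw [Algebra.smul_def, Algebra.smul_def]
        exact coe_decompose_mul_of_left_mem_zero 𝒜 c.2
      rw [this]
      exact Submodule.smul_mem _ c hz
  have := key y hy'
  rwa [decompose_of_mem_same 𝒜 hy] at this

lemma exists_le_irrelevant_pow [Algebra.FiniteType (𝒜 0) A] (n : ℕ) :
    ∃ m₀ : ℕ, ∀ m : ℕ, m₀ ≤ m →
      (𝒜 m : Set A) ⊆ ((HomogeneousIdeal.irrelevant 𝒜).toIdeal ^ n : Ideal A) := by
  classical
  obtain ⟨s, hs, hhom⟩ := GradedAlgebra.exists_finset_adjoin_eq_top_and_homogeneous_ne_zero 𝒜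
  choose d hd hxd using fun i : s => hhom i i.2
  let D := Finset.univ.sup d
  refine ⟨n * D + 1, fun m hm y hy => ?_⟩
  have hspan := mem_span_monomials 𝒜 (fun i : s => (i : A)) d hxd (by simpa using hs) hy
  set I := (HomogeneousIdeal.irrelevant 𝒜).toIdeal with hI
  suffices Submodule.span (𝒜 0)
      {z : A | ∃ a : s → ℕ, ∑ i, a i * d i = m ∧ z = ∏ i : s, (i : A) ^ a i} ≤
      (I ^ n).restrictScalars (𝒜 0) from this hspan
  rw [Submodule.span_le]
  rintro z ⟨a, ha, rfl⟩
  have hn : n ≤ ∑ i, a i := by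
    by_contra hlt
    push Not at hlt
    have : m ≤ (∑ i, a i) * D := by
      rw [← ha, Finset.sum_mul]
      exact Finset.sum_le_sum fun i _ => Nat.mul_le_mul_left _ (Finset.le_sup (Finset.mem_univ i))
    have := Nat.mul_le_mul_right D hlt.le
    omega
  show ∏ i : s, (i : A) ^ a i ∈ I ^ n
  refine Ideal.pow_le_pow_right hn ?_
  rw [← Finset.prod_pow_eq_pow_sum]
  exact Ideal.prod_mem_prod fun i _ =>
    Ideal.pow_mem_pow (mem_irrelevant 𝒜 (Nat.pos_of_ne_zero (hd i)) (hxd i)) _

/-- Among exponent vectors, a block of weight `h` splits off. -/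
lemma exists_split {ι : Type*} [Fintype ι] (d : ι → ℕ) (L : ℕ) (hL : ∀ i, d i ∣ L) (hL0 : 0 < L)
    (a : ι → ℕ) (c : ℕ) (hc : (c + Fintype.card ι) * L ≤ ∑ i, a i * d i) :
    ∃ b : ι → ℕ, (∀ i, b i ≤ a i) ∧ ∑ i, b i * d i = c * L := by
  classical
  induction c with
  | zero => exact ⟨0, by simp, by simp⟩
  | succ c ih =>
    obtain ⟨b, hb, hbs⟩ := ih (le_trans (Nat.mul_le_mul_right L (by omega)) hc)
    obtain ⟨i, hi⟩ : ∃ i, L ≤ (a i - b i) * d i := by
      by_contra hno
      push Not at hno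
      have h1 : ∑ i, a i * d i = ∑ i, b i * d i + ∑ i, (a i - b i) * d i := by
        rw [← Finset.sum_add_distrib]
        refine Finset.sum_congr rfl fun i _ => ?_
        rw [← add_mul, Nat.add_sub_cancel' (hb i)]
      rcases isEmpty_or_nonempty ι with hι | hι
      · simp at hc; omega
      · have h2 : ∑ i, (a i - b i) * d i < ∑ _i : ι, L :=
          Finset.sum_lt_sum_of_nonempty Finset.univ_nonempty fun i _ => hno i
        simp only [Finset.sum_const, Finset.card_univ, smul_eq_mul] at h2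
        rw [add_mul, add_mul, one_mul] at hc
        omega
    have hdi : L / d i * d i = L := Nat.div_mul_cancel (hL i)
    refine ⟨b + Pi.single i (L / d i), fun j => ?_, ?_⟩
    · rcases eq_or_ne j i with rfl | hj
      · have hd : 0 < d j := Nat.pos_of_ne_zero fun h0 => by simp [h0] at hi; omega
        have : L / d j ≤ a j - b j := Nat.div_le_of_le_mul (by rw [mul_comm]; exact hi)
        simp only [Pi.add_apply, Pi.single_eq_same]
        have := hb j
        omega
      · simp [Pi.single_eq_of_ne hj, hb j]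
    · simp only [Pi.add_apply, add_mul, Finset.sum_add_distrib, hbs]
      simp [Pi.single_apply, ite_mul, hdi]

lemma exists_pow_degree_eq [Algebra.FiniteType (𝒜 0) A] :
    ∃ h : ℕ, 0 < h ∧ ∀ m : ℕ, 0 < m → 𝒜 (m * h) = (𝒜 h : Submodule R A) ^ m := by
  classical
  obtain ⟨s, hs, hhom⟩ := GradedAlgebra.exists_finset_adjoin_eq_top_and_homogeneous_ne_zero 𝒜
  choose d hd hxd using fun i : s => hhom i i.2
  let L := ∏ i, d i
  have hL0 : 0 < L := Finset.prod_pos fun i _ => Nat.pos_of_ne_zero (hd i)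
  have hL : ∀ i, d i ∣ L := fun i => Finset.dvd_prod_of_mem d (Finset.mem_univ i)
  let h := (Fintype.card s + 1) * L
  refine ⟨h, by positivity, fun m hm => le_antisymm ?_ ?_⟩
  · induction m, Nat.succ_le_of_lt hm using Nat.le_induction with
    | base => simp
    | succ m hm' ih =>
      intro y hy
      have hspan := mem_span_monomials 𝒜 (fun i : s => (i : A)) d hxd (by simpa using hs) hy
      clear hy
      induction hspan using Submodule.span_induction with
      | mem z hz =>
        obtain ⟨a, ha, rfl⟩ := hz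
        obtain ⟨b, hb, hbs⟩ := exists_split d L hL hL0 a (Fintype.card s + 1) (by
          rw [ha]
          calc (Fintype.card s + 1 + Fintype.card s) * L
              ≤ ((Fintype.card s + 1) * 2) * L := Nat.mul_le_mul_right L (by omega)
            _ = 2 * h := by ring
            _ ≤ (m + 1) * h := Nat.mul_le_mul_right h (by omega))
        have : ∏ i : s, (i : A) ^ a i = (∏ i : s, (i : A) ^ (a i - b i)) * ∏ i : s, (i : A) ^ b i := by
          rw [← Finset.prod_mul_distrib]
          exact Finset.prod_congr rfl fun i _ => by rw [← pow_add, Nat.sub_add_cancel (hb i)]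
        rw [this, pow_succ]
        refine Submodule.mul_mem_mul (ih (by omega) ?_) ?_
        · have e : ∑ i, (a i - b i) * d i = m * h := by
            have h1 : ∑ i, a i * d i = ∑ i, b i * d i + ∑ i, (a i - b i) * d i := by
              rw [← Finset.sum_add_distrib]
              refine Finset.sum_congr rfl fun i _ => ?_
              rw [← add_mul, Nat.add_sub_cancel' (hb i)]
            rw [ha, hbs] at h1
            change (m + 1) * h = h + _ at h1
            rw [add_mul, one_mul] at h1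
            omega
          rw [← e]
          refine SetLike.prod_mem_graded _ _ _ fun i _ => ?_
          simpa using SetLike.pow_mem_graded (a i - b i) (hxd i)
        · have e : ∑ i, b i * d i = h := hbs
          rw [← e]
          refine SetLike.prod_mem_graded _ _ _ fun i _ => ?_
          simpa using SetLike.pow_mem_graded (b i) (hxd i)
      | zero => exact zero_mem _
      | add p q _ _ hp hq => exact add_mem hp hq
      | smul c z _ hz =>
        have hle : 𝒜 0 * (𝒜 h : Submodule R A) ^ (m + 1) ≤ (𝒜 h) ^ (m + 1) := by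
          rw [pow_succ', ← mul_assoc]
          refine mul_le_mul' (Submodule.mul_le.mpr fun p hp q hq => ?_) le_rfl
          simpa using SetLike.mul_mem_graded hp hq
        exact hle (Submodule.mul_mem_mul c.2 hz)
  · clear hm
    induction m with
    | zero =>
      rw [pow_zero, zero_mul]
      exact Submodule.one_le.mpr SetLike.GradedOne.one_mem
    | succ m ih =>
      rw [pow_succ, add_mul, one_mul]
      exact Submodule.mul_le.mpr fun p hp q hq => SetLike.mul_mem_graded (ih hp) hq

/-! ### Relevant homogeneous primes -/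

lemma mem_radical_of_forall_point (I : Ideal A) (hI : I.IsHomogeneous 𝒜) {e : A}
    (he : e ∈ (HomogeneousIdeal.irrelevant 𝒜).toIdeal)
    (h : ∀ x ∈ ProjectiveSpectrum.zeroLocus 𝒜 (I : Set A), e ∈ x.asHomogeneousIdeal) :
    e ∈ I.radical := by
  rw [hI.radical_eq, Submodule.mem_sInf]
  rintro J ⟨hJ, hIJ, hJp⟩
  by_cases hirr : (HomogeneousIdeal.irrelevant 𝒜).toIdeal ≤ J
  · exact hirr he
  · exact h ⟨⟨J, hJ⟩, hJp, fun hh => hirr hh⟩ hIJ

lemma zeroLocus_eq_univ_iff (E : Set A) (hE : E ⊆ (HomogeneousIdeal.irrelevant 𝒜).toIdeal) :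
    ProjectiveSpectrum.zeroLocus 𝒜 E = Set.univ ↔ ∀ e ∈ E, IsNilpotent e := by
  refine ⟨fun h e he => ?_, fun h => Set.eq_univ_of_forall fun x e he => ?_⟩
  · have : e ∈ (⊥ : Ideal A).radical := mem_radical_of_forall_point 𝒜 ⊥ (.bot 𝒜) (hE he)
      fun x _ => (h ▸ Set.mem_univ x : x ∈ ProjectiveSpectrum.zeroLocus 𝒜 E) he
    exact mem_nilradical.mp this
  · obtain ⟨n, hn⟩ := h e he
    exact x.isPrime.mem_of_pow_mem n (hn ▸ Ideal.zero_mem _)

lemma isEmpty_iff :
    IsEmpty (ProjectiveSpectrum 𝒜) ↔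
      ∀ f ∈ (HomogeneousIdeal.irrelevant 𝒜).toIdeal, IsNilpotent f := by
  refine ⟨fun h f hf => ?_, fun h => ⟨fun x => x.not_irrelevant_le fun f hf => ?_⟩⟩
  · exact mem_nilradical.mp (mem_radical_of_forall_point 𝒜 ⊥ (.bot 𝒜) hf fun x => (h.false x).elim)
  · obtain ⟨n, hn⟩ := h f hf
    exact x.isPrime.mem_of_pow_mem n (hn ▸ Ideal.zero_mem _)

end Groth.Agent.EGA2G
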