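import Groth.Agent.EGA2G.Graded
import Mathlib.Algebra.Polynomial.Coeff
import Mathlib.RingTheory.GradedAlgebra.FiniteType

/-! The graded ring `S♮ = ⊕ S_{≥ n}`. -/

namespace Groth.Agent.EGA2G

open DirectSum SetLike Polynomial

variable {R A B : Type*} [CommRing R] [CommRing A] [Algebra R A]
  (𝒜 : ℕ → Submodule R A) [GradedAlgebra 𝒜] [CommRing B] [Algebra R B]
  (ℬ : ℕ → Submodule R B) [GradedAlgebra ℬ] (φ : B →ₐ[R] Polynomial A)
  (hdeg : ∀ n : ℕ, Submodule.map φ.toLinearMap (ℬ n) =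
    Submodule.map ((Polynomial.monomial n : A →ₗ[A] Polynomial A).restrictScalars R)
      (⨆ (m : ℕ) (_ : n ≤ m), 𝒜 m))

include hdeg in
lemma natural_preimage {n m : ℕ} (h : n ≤ m) {x : A} (hx : x ∈ 𝒜 m) :
    ∃ y ∈ ℬ n, φ y = monomial n x := by
  obtain ⟨y, hy, hyx⟩ := (hdeg n).ge
    (Submodule.mem_map_of_mem (Submodule.mem_iSup_of_mem m (Submodule.mem_iSup_of_mem h hx)))
  exact ⟨y, hy, hyx⟩

include hdeg in
lemma natural_image {n : ℕ} {y : B} (hy : y ∈ ℬ n) :
    ∃ x ∈ (⨆ (m : ℕ) (_ : n ≤ m), 𝒜 m), φ y = monomial n x := by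
  obtain ⟨x, hx, hxy⟩ := (hdeg n).le (Submodule.mem_map_of_mem hy)
  exact ⟨x, hx, hxy.symm⟩

include hdeg in
lemma natural_preimage_C (a : A) : ∃ y ∈ ℬ 0, φ y = C a := by
  classical
  have : a ∈ ⨆ (m : ℕ) (_ : 0 ≤ m), 𝒜 m := by
    rw [← sum_support_decompose 𝒜 a]
    exact sum_mem fun i _ => Submodule.mem_iSup_of_mem i
      (Submodule.mem_iSup_of_mem (Nat.zero_le i) (Subtype.prop _))
  obtain ⟨y, hy, hyx⟩ := (hdeg 0).ge (Submodule.mem_map_of_mem this)
  refine ⟨y, hy, ?_⟩
  simpa using hyx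

include hdeg in
/-- `S♮` is of finite type over `S♮₀` if `S` is over `S₀`. -/
theorem natural_finiteType [Algebra.FiniteType (𝒜 0) A] (hφ : Function.Injective φ) :
    Algebra.FiniteType (ℬ 0) B := by
  classical
  obtain ⟨s, hs, hhom⟩ := GradedAlgebra.exists_finset_adjoin_eq_top_and_homogeneous_ne_zero 𝒜
  choose e he hxe using fun i : s => hhom i i.2
  have hspan : (HomogeneousIdeal.irrelevant 𝒜).toIdeal ≤ Ideal.span (s : Set A) :=
    irrelevant_le_span_of_adjoin_eq_top 𝒜 _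
      (fun x hx => ⟨e ⟨x, hx⟩, Nat.pos_of_ne_zero (he ⟨x, hx⟩), hxe ⟨x, hx⟩⟩) hs
  let G : Set B := φ ⁻¹' Set.range fun p : Σ i : s, Fin (e i + 1) =>
    monomial (p.2 : ℕ) ((p.1 : A))
  have hG : G.Finite := (Set.finite_range _).preimage hφ.injOn
  set T := Algebra.adjoin (ℬ 0) G with hT
  have hC : ∀ a : A, ∃ b ∈ T, φ b = C a := fun a => by
    obtain ⟨y, hy, hya⟩ := natural_preimage_C 𝒜 ℬ φ hdeg a
    exact ⟨y, Subalgebra.algebraMap_mem T (⟨y, hy⟩ : ℬ 0), hya⟩
  have hgen : ∀ (i : s) (j : ℕ), j ≤ e i → ∃ b ∈ T, φ b = monomial j (i : A) := fun i j hj => by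
    obtain ⟨y, -, hyx⟩ := natural_preimage 𝒜 ℬ φ hdeg hj (hxe i)
    exact ⟨y, Algebra.subset_adjoin ⟨⟨i, j, Nat.lt_succ_of_le hj⟩, hyx.symm⟩, hyx⟩
  have key : ∀ (m : ℕ), ∀ x ∈ 𝒜 m, ∀ n ≤ m, ∃ b ∈ T, φ b = monomial n x := by
    intro m
    induction m using Nat.strong_induction_on with
    | _ m ih =>
      intro x hx n hn
      rcases Nat.eq_zero_or_pos m with rfl | hm
      · obtain rfl := Nat.le_zero.1 hn
        obtain ⟨b, hb, hbx⟩ := hC x
        exact ⟨b, hb, by simp [hbx]⟩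
      suffices ∀ y ∈ Ideal.span (s : Set A), ∀ a : A,
          ∃ b ∈ T, φ b = monomial n (decompose 𝒜 (a * y) m : A) by
        have := this x (hspan (mem_irrelevant 𝒜 hm hx)) 1
        rwa [one_mul, decompose_of_mem_same 𝒜 hx] at this
      intro y hy
      induction hy using Submodule.span_induction with
      | mem z hz =>
        intro a
        rw [coe_decompose_mul_of_right_mem 𝒜 m (hxe ⟨z, hz⟩)]
        split_ifs with hle
        · set a' : A := (decompose 𝒜 a (m - e ⟨z, hz⟩) : A)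
          rcases le_or_gt n (e ⟨z, hz⟩) with hne | hne
          · obtain ⟨b, hb, hba⟩ := hC a'
            obtain ⟨c, hc, hcz⟩ := hgen ⟨z, hz⟩ n hne
            exact ⟨b * c, mul_mem hb hc, by rw [map_mul, hba, hcz, C_mul_monomial]⟩
          · obtain ⟨b, hb, hba⟩ := ih (m - e ⟨z, hz⟩)
              (Nat.sub_lt hm (Nat.pos_of_ne_zero (he ⟨z, hz⟩))) a' (Subtype.prop _)
              (n - e ⟨z, hz⟩) (Nat.sub_le_sub_right hn _)
            obtain ⟨c, hc, hcz⟩ := hgen ⟨z, hz⟩ (e ⟨z, hz⟩) le_rfl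
            refine ⟨b * c, mul_mem hb hc, ?_⟩
            rw [map_mul, hba, hcz, monomial_mul_monomial, Nat.sub_add_cancel hne.le]
        · exact ⟨0, zero_mem _, by simp⟩
      | zero => exact fun a => ⟨0, zero_mem _, by simp⟩
      | add p q _ _ hp hq =>
        intro a
        obtain ⟨b, hb, hb'⟩ := hp a
        obtain ⟨c, hc, hc'⟩ := hq a
        refine ⟨b + c, add_mem hb hc, ?_⟩
        rw [map_add, hb', hc', mul_add, decompose_add, DirectSum.add_apply, Submodule.coe_add,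
          map_add]
      | smul c p _ hp =>
        intro a
        rw [smul_eq_mul, ← mul_assoc]
        exact hp (a * c)
  refine ⟨⟨hG.toFinset, ?_⟩⟩
  rw [Set.Finite.coe_toFinset]
  refine top_le_iff.mp fun b _ => ?_
  rw [← sum_support_decompose ℬ b]
  refine sum_mem fun n _ => ?_
  obtain ⟨x, hx, hbx⟩ := natural_image 𝒜 ℬ φ hdeg (decompose ℬ b n).2
  suffices ∃ c ∈ T, φ c = monomial n x by
    obtain ⟨c, hc, hc'⟩ := this
    exact hφ (hc'.trans hbx.symm) ▸ hc
  clear hbx
  induction hx using Submodule.iSup_induction' with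
  | mem m x hx =>
    by_cases hm : n ≤ m
    · rw [iSup_pos hm] at hx
      exact key m x hx n hm
    · rw [iSup_neg hm, Submodule.mem_bot] at hx
      exact ⟨0, zero_mem _, by simp [hx]⟩
  | zero => exact ⟨0, zero_mem _, by simp⟩
  | add p q _ _ hp hq =>
    obtain ⟨b, hb, hb'⟩ := hp
    obtain ⟨c, hc, hc'⟩ := hq
    exact ⟨b + c, add_mem hb hc, by rw [map_add, hb', hc', map_add]⟩

include hdeg in
/-- Conversely `S` is of finite type over `S₀` if `S♮` is over `S♮₀`. -/
theorem finiteType_of_natural [Algebra.FiniteType (ℬ 0) B] : Algebra.FiniteType (𝒜 0) A := by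
  classical
  obtain ⟨G, hG, hGspan⟩ := exists_finset_of_irrelevant_fg ((irrelevant_fg_iff ℬ).2 ‹_›)
  rw [← irrelevant_fg_iff]
  have hle1 : (⨆ (m : ℕ) (_ : 1 ≤ m), 𝒜 m) ≤
      (HomogeneousIdeal.irrelevant 𝒜).toIdeal.restrictScalars R :=
    iSup₂_le fun m hm x hx => mem_irrelevant 𝒜 hm hx
  let G1 : Finset A := (G.filter fun g => g ∈ ℬ 1).image fun g => (φ g).coeff 1
  refine ⟨G1, le_antisymm ?_ ?_⟩
  · change Ideal.span (G1 : Set A) ≤ _
    refine Ideal.span_le.2 fun a ha => ?_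
    obtain ⟨g, hg, rfl⟩ := Finset.mem_image.1 ha
    obtain ⟨x, hx, hgx⟩ := natural_image 𝒜 ℬ φ hdeg (Finset.mem_filter.1 hg).2
    rw [hgx, coeff_monomial, if_pos rfl]
    exact hle1 hx
  · change _ ≤ Ideal.span (G1 : Set A)
    intro a ha
    rw [← sum_support_decompose 𝒜 a]
    refine sum_mem fun m _ => ?_
    rcases Nat.eq_zero_or_pos m with rfl | hm
    · rw [HomogeneousIdeal.mem_iff, HomogeneousIdeal.mem_irrelevant_iff, GradedRing.proj_apply]
        at ha
      rw [ha]
      exact zero_mem _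
    obtain ⟨y, hy, hyx⟩ := natural_preimage 𝒜 ℬ φ hdeg (n := 1) hm (decompose 𝒜 a m).2
    suffices ∀ z ∈ Ideal.span (G : Set B), ∀ c : B,
        (φ (decompose ℬ (c * z) 1 : B)).coeff 1 ∈ Ideal.span (G1 : Set A) by
      have := this y (hGspan ▸ mem_irrelevant ℬ one_pos hy) 1
      rwa [one_mul, decompose_of_mem_same ℬ hy, hyx, coeff_monomial, if_pos rfl] at this
    intro z hz
    induction hz using Submodule.span_induction with
    | mem g hg =>
      intro c
      obtain ⟨d, hd, hgd⟩ := hG g hg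
      rw [coe_decompose_mul_of_right_mem ℬ 1 hgd]
      split_ifs with hle
      · obtain rfl : d = 1 := by omega
        obtain ⟨x, -, hcx⟩ := natural_image 𝒜 ℬ φ hdeg (decompose ℬ c (1 - 1)).2
        rw [map_mul, hcx]
        simp only [Nat.sub_self, monomial_zero_left, coeff_C_mul]
        exact Ideal.mul_mem_left _ _ (Ideal.subset_span
          (Finset.mem_image_of_mem _ (Finset.mem_filter.2 ⟨hg, hgd⟩)))
      · simp
    | zero => simp
    | add p q _ _ hp hq =>
      intro c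
      rw [mul_add, decompose_add, DirectSum.add_apply, Submodule.coe_add, map_add, coeff_add]
      exact add_mem (hp c) (hq c)
    | smul r p _ hp =>
      intro c
      rw [smul_eq_mul, ← mul_assoc]
      exact hp (c * r)

include hdeg in
theorem natural_isNoetherianRing_iff (hφ : Function.Injective φ) :
    IsNoetherianRing B ↔ IsNoetherianRing A := by
  refine ⟨fun h => isNoetherianRing_of_surjective B A
    ((constantCoeff (R := A)).comp φ.toRingHom) fun a => ?_, fun h => ?_⟩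
  · obtain ⟨y, -, hy⟩ := natural_preimage_C 𝒜 ℬ φ hdeg a
    exact ⟨y, by simp [hy]⟩
  · haveI := ((isNoetherianRing_iff 𝒜).1 h).2
    haveI := natural_finiteType 𝒜 ℬ φ hdeg hφ
    choose j hj hj' using natural_preimage_C 𝒜 ℬ φ hdeg
    let J : A →+* ℬ 0 :=
      { toFun := fun a => ⟨j a, hj a⟩
        map_one' := Subtype.ext (hφ (by simp [hj']))
        map_mul' := fun a b => Subtype.ext (hφ (by
          change φ (j (a * b)) = φ (j a * j b); simp [hj']))
        map_zero' := Subtype.ext (hφ (by simp [hj']))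
        map_add' := fun a b => Subtype.ext (hφ (by
          change φ (j (a + b)) = φ (j a + j b); simp [hj'])) }
    haveI : IsNoetherianRing (ℬ 0) := by
      refine isNoetherianRing_of_surjective A (ℬ 0) J fun y => ?_
      obtain ⟨x, -, hx⟩ := natural_image 𝒜 ℬ φ hdeg y.2
      exact ⟨x, Subtype.ext (hφ (by
        change φ (j x) = φ (y : B)
        rw [hj', hx, monomial_zero_left]))⟩
    exact Algebra.FiniteType.isNoetherianRing (ℬ 0) B

end Groth.Agent.EGA2G
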