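import Groth.Agent.EGA2G.Graded
import Mathlib.AlgebraicGeometry.ProjectiveSpectrum.Functor
import Mathlib.AlgebraicGeometry.ProjectiveSpectrum.Proper
import Mathlib.AlgebraicGeometry.Noetherian
import Mathlib.AlgebraicGeometry.Morphisms.ClosedImmersion

/-! Basic facts on `Proj`. -/

universe u

namespace Groth.Agent.EGA2G

open CategoryTheory AlgebraicGeometry DirectSum HomogeneousLocalization TopologicalSpace

variable {R A : Type u} [CommRing R] [CommRing A] [Algebra R A] (𝒜 : ℕ → Submodule R A) [GradedAlgebra 𝒜]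

lemma proj_isNoetherian [IsNoetherianRing A] : AlgebraicGeometry.IsNoetherian (Proj 𝒜) := by
  obtain ⟨h₀, h₁⟩ := (isNoetherianRing_iff 𝒜).mp ‹_›
  have : IsNoetherianRing (CommRingCat.of (𝒜 0)) := h₀
  have h2 := LocallyOfFiniteType.isLocallyNoetherian (Proj.toSpecZero 𝒜)
  have h3 : CompactSpace ↥(Proj 𝒜) := QuasiCompact.compactSpace_of_compactSpace (Proj.toSpecZero 𝒜)
  exact {}

lemma iSup_basicOpen_eq_top_iff {ι : Type*} (f : ι → A) (hf : ∀ i, ∃ d : ℕ, 0 < d ∧ f i ∈ 𝒜 d) :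
    (⨆ i, Proj.basicOpen 𝒜 (f i)) = ⊤ ↔
      (HomogeneousIdeal.irrelevant 𝒜).toIdeal ≤ (Ideal.span (Set.range f)).radical := by
  have hhom : (Ideal.span (Set.range f)).IsHomogeneous 𝒜 := Ideal.homogeneous_span _ _ fun x hx => by
    obtain ⟨i, rfl⟩ := hx
    obtain ⟨d, -, hd⟩ := hf i
    exact ⟨d, hd⟩
  refine ⟨fun h e he => mem_radical_of_forall_point 𝒜 _ hhom he fun x hx => ?_, fun h => ?_⟩
  · exfalso
    obtain ⟨i, hi⟩ := Opens.mem_iSup.mp (h.ge (Set.mem_univ x) : x ∈ ⨆ i, Proj.basicOpen 𝒜 (f i))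
    exact hi (hx (Ideal.subset_span ⟨i, rfl⟩))
  · refine top_le_iff.mp fun (x : ProjectiveSpectrum 𝒜) _ => Opens.mem_iSup.mpr ?_
    by_contra! H
    refine x.not_irrelevant_le (h.trans (x.isPrime.radical_le_iff.mpr (Ideal.span_le.mpr ?_)))
    rintro _ ⟨i, rfl⟩
    by_contra hn
    exact H i hn

lemma compactSpace_iff :
    CompactSpace ↥(Proj 𝒜) ↔ ∃ s : Finset A, (∀ f ∈ s, ∃ d : ℕ, 0 < d ∧ f ∈ 𝒜 d) ∧
      (HomogeneousIdeal.irrelevant 𝒜).toIdeal ≤ (Ideal.span (s : Set A)).radical := by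
  classical
  let F : (Σ i : PNat, 𝒜 i) → A := fun i => i.2
  have hF : ∀ i, ∃ d : ℕ, 0 < d ∧ F i ∈ 𝒜 d := fun i => ⟨i.1, i.1.2, i.2.2⟩
  constructor
  · intro h
    have htop : (⨆ i, Proj.basicOpen 𝒜 (F i)) = ⊤ := by
      refine (iSup_basicOpen_eq_top_iff 𝒜 F hF).mpr (le_trans ?_ Ideal.le_radical)
      rw [HomogeneousIdeal.irrelevant_eq_span]
      refine Ideal.span_mono ?_
      simp only [Set.iUnion_subset_iff]
      exact fun i hi x hx => ⟨⟨⟨i, hi⟩, ⟨x, hx⟩⟩, rfl⟩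
    obtain ⟨t, ht⟩ := isCompact_univ.elim_finite_subcover
      (fun i => (Proj.basicOpen 𝒜 (F i) : Set ↥(Proj 𝒜))) (fun i => (Proj.basicOpen 𝒜 (F i)).2)
      (fun x _ => by
        obtain ⟨i, hi⟩ := Opens.mem_iSup.mp (htop.ge (Set.mem_univ x) : x ∈ ⨆ i, _)
        exact Set.mem_iUnion.mpr ⟨i, hi⟩)
    refine ⟨t.image F, fun f hf => ?_, ?_⟩
    · obtain ⟨i, -, rfl⟩ := Finset.mem_image.mp hf
      exact hF i
    · have := (iSup_basicOpen_eq_top_iff 𝒜 (fun i : t => F i) fun i => hF i).mp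
        (top_le_iff.mp fun x hx => by
          obtain ⟨i, hi, hxi⟩ := Set.mem_iUnion₂.mp (ht hx)
          exact Opens.mem_iSup.mpr ⟨⟨i, hi⟩, hxi⟩)
      refine this.trans (Ideal.radical_mono (Ideal.span_mono ?_))
      rintro _ ⟨i, rfl⟩
      exact Finset.mem_coe.mpr (Finset.mem_image.mpr ⟨i, i.2, rfl⟩)
  · rintro ⟨s, hs, hle⟩
    choose d hd hsd using fun f : s => hs f f.2
    have htop : (⨆ i : s, Proj.basicOpen 𝒜 (i : A)) = ⊤ :=
      (iSup_basicOpen_eq_top_iff 𝒜 _ fun i => ⟨d i, hd i, hsd i⟩).mpr (by simpa using hle)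
    refine ⟨?_⟩
    have : (Set.univ : Set ↥(Proj 𝒜)) = ⋃ i : s, (Proj.basicOpen 𝒜 (i : A) : Set ↥(Proj 𝒜)) := by
      rw [← Opens.coe_iSup, htop]; rfl
    rw [this]
    exact isCompact_iUnion fun i => (Proj.isAffineOpen_basicOpen 𝒜 _ (hsd i) (hd i)).isCompact

lemma away_isReduced (hred : ∀ f ∈ (HomogeneousIdeal.irrelevant 𝒜).toIdeal, IsNilpotent f → f = 0)
    {d : ℕ} (hd : 0 < d) {f : A} (hf : f ∈ 𝒜 d) : IsReduced (Away 𝒜 f) := by
  refine ⟨fun x ⟨k, hk⟩ => ?_⟩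
  obtain ⟨n, a, ha, rfl⟩ := Away.mk_surjective 𝒜 hf x
  apply HomogeneousLocalization.val_injective
  replace hk := congrArg HomogeneousLocalization.val hk
  rw [val_pow, val_zero, Away.val_mk, Localization.mk_pow, Localization.mk_eq_mk',
    IsLocalization.mk'_eq_zero_iff] at hk
  rw [val_zero, Away.val_mk, Localization.mk_eq_mk', IsLocalization.mk'_eq_zero_iff]
  obtain ⟨⟨_, j, rfl⟩, hj⟩ := hk
  refine ⟨⟨_, 1, rfl⟩, hred _ ?_ ⟨j + k, ?_⟩⟩
  · exact Ideal.mul_mem_right _ _ (mem_irrelevant 𝒜 (by simpa using hd) (by simpa using hf))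
  · simp only at hj ⊢
    have : (f ^ 1 * a) ^ (j + k) = (f ^ j * a ^ k) * (f ^ k * a ^ j) := by ring
    rw [this, hj, zero_mul]

lemma proj_isReduced (hred : ∀ f ∈ (HomogeneousIdeal.irrelevant 𝒜).toIdeal, IsNilpotent f → f = 0) :
    AlgebraicGeometry.IsReduced (Proj 𝒜) := by
  let 𝒰 := (Proj.affineOpenCover 𝒜).openCover
  have : ∀ i, AlgebraicGeometry.IsReduced (𝒰.X i) := fun i => by
    have : _root_.IsReduced (Away 𝒜 (i.2 : A)) := away_isReduced 𝒜 hred i.1.2 i.2.2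
    exact inferInstanceAs (AlgebraicGeometry.IsReduced (Spec (.of (Away 𝒜 (i.2 : A)))))
  exact AlgebraicGeometry.IsReduced.of_openCover _ 𝒰

variable {B : Type u} [CommRing B] [Algebra R B] (ℬ : ℕ → Submodule R B) [GradedAlgebra ℬ]
  (φ : 𝒜 →+*ᵍ ℬ) (hφ : HomogeneousIdeal.irrelevant ℬ ≤ (HomogeneousIdeal.irrelevant 𝒜).map φ)

lemma iSup_basicOpen_pos_eq_top :
    (⨆ i : (Σ i : PNat, 𝒜 i), Proj.basicOpen 𝒜 (i.2 : A)) = ⊤ := by
  refine (iSup_basicOpen_eq_top_iff 𝒜 _ fun i => ⟨i.1, i.1.2, i.2.2⟩).mpr (le_trans ?_ Ideal.le_radical)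
  rw [HomogeneousIdeal.irrelevant_eq_span]
  refine Ideal.span_mono ?_
  simp only [Set.iUnion_subset_iff]
  exact fun i hi x hx => ⟨⟨⟨i, hi⟩, ⟨x, hx⟩⟩, rfl⟩

lemma proj_map_isAffineHom : IsAffineHom (Proj.map φ hφ) :=
  isAffineHom_of_forall_exists_isAffineOpen _ fun x => by
    obtain ⟨i, hi⟩ := Opens.mem_iSup.mp ((iSup_basicOpen_pos_eq_top 𝒜).ge (Set.mem_univ x))
    refine ⟨_, hi, Proj.isAffineOpen_basicOpen 𝒜 _ i.2.2 i.1.2, ?_⟩
    rw [Proj.map_preimage_basicOpen]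
    exact Proj.isAffineOpen_basicOpen ℬ _ (φ.2 i.2.2) i.1.2

end Groth.Agent.EGA2G
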