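import Groth.Agent.EGA2G.Graded

/-! Veronese subrings and graded modules. -/

namespace Groth.Agent.EGA2G

open DirectSum SetLike

variable {R A : Type*} [CommRing R] [CommRing A] [Algebra R A] (𝒜 : ℕ → Submodule R A) [GradedAlgebra 𝒜]

/-- Projection to degrees divisible by `d`. -/
noncomputable def veroneseProj (d : ℕ) : A →+ A :=
  (DirectSum.toAddMonoid fun i => if d ∣ i then (𝒜 i).subtype.toAddMonoidHom else 0).comp
    (decomposeAddEquiv 𝒜).toAddMonoidHom

lemma veroneseProj_of_mem (d : ℕ) {x : A} {i : ℕ} (hx : x ∈ 𝒜 i) :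
    veroneseProj 𝒜 d x = if d ∣ i then x else 0 := by
  classical
  simp only [veroneseProj, AddMonoidHom.coe_comp, Function.comp_apply,
    AddEquiv.toAddMonoidHom_eq_coe, AddMonoidHom.coe_coe, decomposeAddEquiv_apply]
  rw [decompose_of_mem 𝒜 hx, toAddMonoid_of]
  split_ifs <;> simp

variable {B : Type*} [CommRing B] [Algebra R B] (ℬ : ℕ → Submodule R B) [GradedAlgebra ℬ]
  {d : ℕ} (φ : B →ₐ[R] A) (hdeg : ∀ n : ℕ, Submodule.map φ.toLinearMap (ℬ n) = 𝒜 (n * d))

omit [GradedAlgebra 𝒜] [GradedAlgebra ℬ] in
include hdeg in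
lemma exists_preimage {x : A} {n : ℕ} (hx : x ∈ 𝒜 (n * d)) : ∃ y ∈ ℬ n, φ y = x :=
  (hdeg n).symm.le hx

include hdeg in
lemma veroneseProj_mem_range (x : A) : veroneseProj 𝒜 d x ∈ φ.range := by
  induction x using DirectSum.Decomposition.inductionOn 𝒜 with
  | zero => simp
  | @homogeneous i m =>
    rw [veroneseProj_of_mem 𝒜 d m.2]
    split_ifs with h
    · obtain ⟨n, rfl⟩ := h
      obtain ⟨y, -, hy⟩ := exists_preimage 𝒜 ℬ φ hdeg (n := n) (x := (m : A)) (by rw [mul_comm]; exact m.2)
      exact ⟨y, hy⟩
    · exact zero_mem _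
  | add a b ha hb => rw [map_add]; exact add_mem ha hb

include hdeg in
lemma veroneseProj_mul (x : A) (y : B) :
    veroneseProj 𝒜 d (x * φ y) = veroneseProj 𝒜 d x * φ y := by
  induction y using DirectSum.Decomposition.inductionOn ℬ with
  | zero => simp
  | @homogeneous j m =>
    have hm : φ (m : B) ∈ 𝒜 (j * d) := (hdeg j).le (Submodule.mem_map_of_mem m.2)
    induction x using DirectSum.Decomposition.inductionOn 𝒜 with
    | zero => simp
    | @homogeneous i a =>
      rw [veroneseProj_of_mem 𝒜 d (SetLike.mul_mem_graded a.2 hm), veroneseProj_of_mem 𝒜 d a.2]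
      have : d ∣ i + j * d ↔ d ∣ i := Nat.dvd_add_iff_left (Dvd.intro_left j rfl) |>.symm
      simp only [this]
      split_ifs <;> simp
    | add a b ha hb => rw [add_mul, map_add, map_add, ha, hb, add_mul]
  | add a b ha hb => rw [map_add, mul_add, map_add, ha, hb, mul_add]

include hdeg in
lemma veronese_isNoetherianRing [IsNoetherianRing A] (hφ : Function.Injective φ) :
    IsNoetherianRing B := by
  have hφπ : ∀ y, veroneseProj 𝒜 d (φ y) = φ y := fun y => by
    have := veroneseProj_mul 𝒜 ℬ φ hdeg 1 y
    rwa [one_mul, veroneseProj_of_mem 𝒜 d (SetLike.GradedOne.one_mem (A := 𝒜)),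
      if_pos (dvd_zero d), one_mul] at this
  have hret : ∀ I : Ideal B, (I.map φ).comap φ = I := by
    intro I
    refine le_antisymm (fun y hy => ?_) Ideal.le_comap_map
    have key : ∀ z ∈ I.map φ, ∀ a : A, veroneseProj 𝒜 d (a * z) ∈ φ '' (I : Set B) := by
      intro z hz
      induction hz using Submodule.span_induction with
      | mem x hx =>
        obtain ⟨x, hx, rfl⟩ := hx
        intro a
        obtain ⟨b, hb⟩ := veroneseProj_mem_range 𝒜 ℬ φ hdeg a
        refine ⟨b * x, I.mul_mem_left b hx, ?_⟩
        rw [veroneseProj_mul 𝒜 ℬ φ hdeg, map_mul, ← hb]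
        rfl
      | zero => exact fun a => ⟨0, I.zero_mem, by simp⟩
      | add p q _ _ hp hq =>
        intro a
        obtain ⟨u, hu, hu'⟩ := hp a
        obtain ⟨v, hv, hv'⟩ := hq a
        exact ⟨u + v, I.add_mem hu hv, by rw [mul_add, map_add, map_add, hu', hv']⟩
      | smul c p _ hp =>
        intro a
        rw [smul_eq_mul, ← mul_assoc]
        exact hp (a * c)
    obtain ⟨x, hx, hxy⟩ := key (φ y) hy 1
    rw [one_mul, hφπ] at hxy
    exact hφ hxy ▸ hx
  rw [_root_.isNoetherianRing_iff, ← monotone_stabilizes_iff_noetherian]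
  intro f
  obtain ⟨n, hn⟩ := monotone_stabilizes_iff_noetherian.mpr (inferInstance : IsNoetherian A A)
    ⟨fun k => Ideal.map φ (f k), fun _ _ h => Ideal.map_mono (f.2 h)⟩
  exact ⟨n, fun m hm => by
    rw [← hret (f n), ← hret (f m)]
    exact congrArg (Ideal.comap φ) (hn m hm)⟩

include hdeg in
lemma veronese_finiteType [Algebra.FiniteType (𝒜 0) A] (hd : 0 < d) (hφ : Function.Injective φ) :
    Algebra.FiniteType (ℬ 0) B := by
  classical
  obtain ⟨s, hs, hhom⟩ := GradedAlgebra.exists_finset_adjoin_eq_top_and_homogeneous_ne_zero 𝒜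
  choose e _ hxe using fun i : s => hhom i i.2
  let mon : (s → ℕ) → A := fun r => ∏ i : s, (i : A) ^ r i
  have hmon : ∀ r : s → ℕ, mon r ∈ 𝒜 (∑ i, r i * e i) := fun r => by
    refine SetLike.prod_mem_graded _ _ _ fun i _ => ?_
    simpa using SetLike.pow_mem_graded (r i) (hxe i)
  have hmem : ∀ r : s → ℕ, d ∣ ∑ i, r i * e i → ∃ b : B, φ b = mon r := by
    rintro r ⟨n, hn⟩
    obtain ⟨y, -, hy⟩ := exists_preimage 𝒜 ℬ φ hdeg (n := n) (x := mon r)
      (by rw [mul_comm, ← hn]; exact hmon r)
    exact ⟨y, hy⟩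
  let G : Set B := φ ⁻¹' ((Set.range fun r : s → Fin d => mon fun i => r i) ∪
    Set.range fun i : s => (i : A) ^ d)
  have hG : G.Finite := ((Set.finite_range _).union (Set.finite_range _)).preimage hφ.injOn
  have key : ∀ r : s → ℕ, d ∣ ∑ i, r i * e i → ∃ b ∈ Algebra.adjoin (ℬ 0) G, φ b = mon r := by
    intro r hr
    have hsplit : mon r = (∏ i : s, ((i : A) ^ d) ^ (r i / d)) * mon fun i => r i % d := by
      simp only [mon, ← Finset.prod_mul_distrib]
      exact Finset.prod_congr rfl fun i _ => by rw [← pow_mul, ← pow_add, Nat.div_add_mod]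
    have hrem : d ∣ ∑ i, (r i % d) * e i := by
      have h1 : ∑ i, r i * e i = d * ∑ i, (r i / d) * e i + ∑ i, (r i % d) * e i := by
        rw [Finset.mul_sum, ← Finset.sum_add_distrib]
        refine Finset.sum_congr rfl fun i _ => ?_
        rw [← mul_assoc, ← add_mul, Nat.div_add_mod]
      rw [h1] at hr
      exact (Nat.dvd_add_right (dvd_mul_right _ _)).mp hr
    have hpow : ∀ i : s, ∃ b ∈ Algebra.adjoin (ℬ 0) G, φ b = (i : A) ^ d := fun i => by
      have hi : (i : A) ^ d ∈ 𝒜 (e i * d) := by
        rw [mul_comm]; simpa using SetLike.pow_mem_graded d (hxe i)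
      obtain ⟨y, -, hy⟩ := exists_preimage 𝒜 ℬ φ hdeg hi
      exact ⟨y, Algebra.subset_adjoin (Or.inr ⟨i, hy.symm⟩), hy⟩
    choose u hu hu' using hpow
    obtain ⟨v, hv⟩ := hmem _ hrem
    refine ⟨(∏ i, u i ^ (r i / d)) * v, mul_mem (prod_mem fun i _ => pow_mem (hu i) _)
      (Algebra.subset_adjoin (Or.inl ⟨fun i => ⟨r i % d, Nat.mod_lt _ hd⟩, hv.symm⟩)), ?_⟩
    rw [map_mul, map_prod, hv, hsplit]
    simp [map_pow, hu']
  refine ⟨⟨hG.toFinset, ?_⟩⟩
  rw [Set.Finite.coe_toFinset]
  refine top_le_iff.mp fun b _ => ?_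
  induction b using DirectSum.Decomposition.inductionOn ℬ with
  | zero => exact zero_mem _
  | @homogeneous n m =>
    have hm : φ (m : B) ∈ 𝒜 (n * d) := (hdeg n).le (Submodule.mem_map_of_mem m.2)
    have hspan := mem_span_monomials 𝒜 (fun i : s => (i : A)) e hxe (by simpa using hs) hm
    suffices ∃ b ∈ Algebra.adjoin (ℬ 0) G, φ b = φ (m : B) by
      obtain ⟨b, hb, he⟩ := this
      exact hφ he ▸ hb
    generalize φ (m : B) = z at hspan
    induction hspan using Submodule.span_induction with
    | mem z hz =>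
      obtain ⟨r, hr, rfl⟩ := hz
      exact key r (hr ▸ dvd_mul_left d n)
    | zero => exact ⟨0, zero_mem _, map_zero φ⟩
    | add p q _ _ hp hq =>
      obtain ⟨a, ha, rfl⟩ := hp
      obtain ⟨b, hb, rfl⟩ := hq
      exact ⟨a + b, add_mem ha hb, map_add φ a b⟩
    | smul c p _ hp =>
      obtain ⟨b, hb, rfl⟩ := hp
      obtain ⟨y, hy, hyc⟩ := exists_preimage 𝒜 ℬ φ hdeg (n := 0) (x := (c : A)) (by rw [zero_mul]; exact c.2)
      refine ⟨y * b, mul_mem (Subalgebra.algebraMap_mem _ (⟨y, hy⟩ : ℬ 0)) hb, ?_⟩
      rw [map_mul, hyc]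
      rfl
  | add a b ha hb => exact add_mem (ha trivial) (hb trivial)

/-- In high degrees a finite graded module is generated by a single graded piece. -/
lemma exists_graded_smul_eq [Algebra.FiniteType (𝒜 0) A] {M : Type*} [AddCommGroup M] [Module R M]
    [Module A M] [IsScalarTower R A M] (ℳ : ℕ → Submodule R M) [DirectSum.Decomposition ℳ]
    [SetLike.GradedSMul 𝒜 ℳ] [Module.Finite A M] :
    ∃ (n₁ h : ℕ), 0 < h ∧ ∀ n : ℕ, n₁ ≤ n → ℳ (n + h) = (𝒜 h : Submodule R A) • (ℳ n : Submodule R M) := by
  classical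
  obtain ⟨s, hs, hhom⟩ := GradedAlgebra.exists_finset_adjoin_eq_top_and_homogeneous_ne_zero 𝒜
  choose d hd hxd using fun i : s => hhom i i.2
  let L := ∏ i, d i
  have hL0 : 0 < L := Finset.prod_pos fun i _ => Nat.pos_of_ne_zero (hd i)
  have hL : ∀ i, d i ∣ L := fun i => Finset.dvd_prod_of_mem d (Finset.mem_univ i)
  let h := (Fintype.card s + 1) * L
  obtain ⟨t, ht⟩ := Module.Finite.fg_top (R := A) (M := M)
  let N := t.sup fun x => (decompose ℳ x).support.sup id
  have hsplit : ∀ k, ∀ y ∈ 𝒜 (k + h), h ≤ k → y ∈ (𝒜 h : Submodule R A) * 𝒜 k := by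
    intro k y hy hk
    have hspan := mem_span_monomials 𝒜 (fun i : s => (i : A)) d hxd (by simpa using hs) hy
    clear hy
    induction hspan using Submodule.span_induction with
    | mem z hz =>
      obtain ⟨a, ha, rfl⟩ := hz
      obtain ⟨b, hb, hbs⟩ := exists_split d L hL hL0 a (Fintype.card s + 1) (by
        rw [ha]
        calc (Fintype.card s + 1 + Fintype.card s) * L
            ≤ ((Fintype.card s + 1) * 2) * L := Nat.mul_le_mul_right L (by omega)
          _ = h + h := by ring
          _ ≤ k + h := by omega)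
      have : ∏ i : s, (i : A) ^ a i = (∏ i : s, (i : A) ^ b i) * ∏ i : s, (i : A) ^ (a i - b i) := by
        rw [← Finset.prod_mul_distrib]
        exact Finset.prod_congr rfl fun i _ => by rw [← pow_add, Nat.add_sub_cancel' (hb i)]
      rw [this]
      refine Submodule.mul_mem_mul ?_ ?_
      · rw [show h = ∑ i, b i * d i from hbs.symm]
        refine SetLike.prod_mem_graded _ _ _ fun i _ => ?_
        simpa using SetLike.pow_mem_graded (b i) (hxd i)
      · have e : k = ∑ i, (a i - b i) * d i := by
          have h1 : ∑ i, a i * d i = ∑ i, b i * d i + ∑ i, (a i - b i) * d i := by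
            rw [← Finset.sum_add_distrib]
            refine Finset.sum_congr rfl fun i _ => ?_
            rw [← add_mul, Nat.add_sub_cancel' (hb i)]
          rw [ha, hbs] at h1
          omega
        rw [e]
        refine SetLike.prod_mem_graded _ _ _ fun i _ => ?_
        simpa using SetLike.pow_mem_graded (a i - b i) (hxd i)
    | zero => exact zero_mem _
    | add p q _ _ hp hq => exact add_mem hp hq
    | smul c z _ hz =>
      have hle : 𝒜 0 * ((𝒜 h : Submodule R A) * 𝒜 k) ≤ 𝒜 h * 𝒜 k := by
        rw [← mul_assoc]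
        refine mul_le_mul' (Submodule.mul_le.mpr fun p hp q hq => ?_) le_rfl
        simpa using SetLike.mul_mem_graded hp hq
      exact hle (Submodule.mul_mem_mul c.2 hz)
  refine ⟨N + h, h, by positivity, fun n hn => le_antisymm (fun y hy => ?_) ?_⟩
  · set T := (𝒜 h : Submodule R A) • (ℳ n : Submodule R M)
    have key : ∀ z : M, ∀ a : A, (decompose ℳ (a • z) (n + h) : M) ∈ T := by
      intro z
      have hz : z ∈ Submodule.span A (t : Set M) := ht ▸ Submodule.mem_top
      induction hz using Submodule.span_induction with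
      | mem x hx =>
        intro a
        rw [← DirectSum.sum_support_decompose ℳ x, Finset.smul_sum, decompose_sum,
          DFinsupp.finsetSum_apply, AddSubmonoidClass.coe_finsetSum]
        refine sum_mem fun j hj => ?_
        have hjN : j ≤ N := le_trans (Finset.le_sup (f := id) hj) (Finset.le_sup (f := fun x => (decompose ℳ x).support.sup id) hx)
        set w := (decompose ℳ x j : M)
        have hw : w ∈ ℳ j := Subtype.prop _
        induction a using DirectSum.Decomposition.inductionOn 𝒜 with
        | zero => simp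
        | @homogeneous i m =>
          have hmw : (m : A) • w ∈ ℳ (i + j) := SetLike.GradedSMul.smul_mem m.2 hw
          by_cases hij : i + j = n + h
          · rw [← hij, decompose_of_mem_same ℳ hmw]
            have hm : (m : A) ∈ (𝒜 h : Submodule R A) * 𝒜 (n - j) :=
              hsplit (n - j) _ (by rw [show n - j + h = i by omega]; exact m.2) (by omega)
            generalize (m : A) = z at hm
            induction hm using Submodule.mul_induction_on' with
            | mem_mul_mem p hp q hq =>
              rw [mul_smul]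
              refine Submodule.smul_mem_smul hp ?_
              have := SetLike.GradedSMul.smul_mem hq hw
              rwa [vadd_eq_add, Nat.sub_add_cancel (by omega)] at this
            | add p _ q _ hp hq => rw [add_smul]; exact add_mem hp hq
          · rw [decompose_of_mem_ne ℳ hmw hij]
            exact zero_mem _
        | add p q hp hq =>
          rw [add_smul, decompose_add, DirectSum.add_apply, Submodule.coe_add]
          exact add_mem hp hq
      | zero => intro a; simp
      | add p q _ _ hp hq =>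
        intro a
        rw [smul_add, decompose_add, DirectSum.add_apply, Submodule.coe_add]
        exact add_mem (hp a) (hq a)
      | smul c p _ hp =>
        intro a
        rw [← mul_smul]
        exact hp _
    have := key y 1
    rwa [one_smul, decompose_of_mem_same ℳ hy] at this
  · refine Submodule.smul_le.mpr fun a ha m hm => ?_
    have := SetLike.GradedSMul.smul_mem ha hm
    rwa [vadd_eq_add, add_comm] at this

end Groth.Agent.EGA2G
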